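import Mathlib
import Cfsg.Prelude.Def_Local
import Cfsg.Prelude.Def_TwoFusion
import Cfsg.Agent.Lib.Transfer.Fusion
import Cfsg.Agent.InvChar.Core

/-!
# Commuting strongly closed pairs, as pairs of conjugation-invariant sets

A pair `π = (A, B)` of invariant sets of 2-elements, each meeting every 2-subgroup in a subgroup,
with trivial intersection, and commuting inside every 2-subgroup. This is the form of a pair of
disjoint commuting strongly closed 2-subgroups that passes to subgroups and to quotients.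
-/

set_option autoImplicit false
set_option linter.style.haveILetI false

open Subgroup
open scoped commutatorElement

namespace Cfsg.Agent.ProductFusion

universe u

variable {G : Type u} [Group G]

/-- A disjoint commuting pair of invariant, strongly closed sets of 2-elements. -/
structure Pair (G : Type u) [Group G] where
  A : Set G
  B : Set G
  conjA : ∀ (g : G), ∀ a ∈ A, g * a * g⁻¹ ∈ A
  conjB : ∀ (g : G), ∀ b ∈ B, g * b * g⁻¹ ∈ B
  oneA : (1 : G) ∈ A
  oneB : (1 : G) ∈ B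
  twoA : ∀ a ∈ A, ∃ k : ℕ, a ^ 2 ^ k = 1
  twoB : ∀ b ∈ B, ∃ k : ℕ, b ^ 2 ^ k = 1
  mulA : ∀ P : Subgroup G, IsPGroup 2 P → ∀ a ∈ A, a ∈ P → ∀ a' ∈ A, a' ∈ P → a * a' ∈ A
  mulB : ∀ P : Subgroup G, IsPGroup 2 P → ∀ b ∈ B, b ∈ P → ∀ b' ∈ B, b' ∈ P → b * b' ∈ B
  disj : ∀ a ∈ A, a ∈ B → a = 1
  comm : ∀ P : Subgroup G, IsPGroup 2 P → ∀ a ∈ A, a ∈ P → ∀ b ∈ B, b ∈ P → Commute a b

namespace Pair

variable (π : Pair G)

/-- The pair with the two members exchanged. -/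
def swap : Pair G where
  A := π.B
  B := π.A
  conjA := π.conjB
  conjB := π.conjA
  oneA := π.oneB
  oneB := π.oneA
  twoA := π.twoB
  twoB := π.twoA
  mulA := π.mulB
  mulB := π.mulA
  disj := fun a ha hb => π.disj a hb ha
  comm := fun P hP a ha haP b hb hbP => (π.comm P hP b hb hbP a ha haP).symm

/-- The involutions of the first member. -/
def X : Set G := {x | orderOf x = 2 ∧ x ∈ π.A}

/-- The involutions of the second member. -/
def Y : Set G := {y | orderOf y = 2 ∧ y ∈ π.B}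

@[simp] lemma swap_X : π.swap.X = π.Y := rfl
@[simp] lemma swap_Y : π.swap.Y = π.X := rfl
@[simp] lemma swap_A : π.swap.A = π.B := rfl
@[simp] lemma swap_B : π.swap.B = π.A := rfl

lemma isPGroup_zpowers {a : G} {k : ℕ} (h : a ^ 2 ^ k = 1) : IsPGroup 2 (zpowers a) := by
  rintro ⟨y, hy⟩
  obtain ⟨i, rfl⟩ := mem_zpowers_iff.1 hy
  refine ⟨k, Subtype.ext ?_⟩
  push_cast
  rw [← zpow_natCast, ← zpow_mul, mul_comm, zpow_mul, zpow_natCast, h, one_zpow]

lemma isPGroup_of_A {a : G} (ha : a ∈ π.A) : IsPGroup 2 (zpowers a) :=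
  isPGroup_zpowers (π.twoA a ha).choose_spec

lemma powA {a : G} (ha : a ∈ π.A) : ∀ n : ℕ, a ^ n ∈ π.A
  | 0 => by rw [pow_zero]; exact π.oneA
  | n + 1 => by
    rw [pow_succ]
    exact π.mulA _ (π.isPGroup_of_A ha) _ (powA ha n) (pow_mem (mem_zpowers a) n) a ha
      (mem_zpowers a)

lemma invA {a : G} (ha : a ∈ π.A) : a⁻¹ ∈ π.A := by
  obtain ⟨k, hk⟩ := π.twoA a ha
  rw [show a⁻¹ = a ^ (2 ^ k - 1) from inv_eq_of_mul_eq_one_right (by
    rw [← pow_succ', Nat.sub_add_cancel Nat.one_le_two_pow, hk])]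
  exact π.powA ha _

/-- The part of the first member inside a 2-subgroup, as a subgroup. -/
def secA (P : Subgroup G) (hP : IsPGroup 2 P) : Subgroup G where
  carrier := {a | a ∈ π.A ∧ a ∈ P}
  one_mem' := ⟨π.oneA, one_mem P⟩
  mul_mem' := fun ha hb => ⟨π.mulA P hP _ ha.1 ha.2 _ hb.1 hb.2, mul_mem ha.2 hb.2⟩
  inv_mem' := fun ha => ⟨π.invA ha.1, inv_mem ha.2⟩

@[simp] lemma mem_secA {P : Subgroup G} {hP : IsPGroup 2 P} {a : G} :
    a ∈ π.secA P hP ↔ a ∈ π.A ∧ a ∈ P := Iff.rfl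

lemma secA_le (P : Subgroup G) (hP : IsPGroup 2 P) : π.secA P hP ≤ P := fun _ h => h.2

lemma secA_commute {P : Subgroup G} {hP : IsPGroup 2 P} {a b : G} (ha : a ∈ π.secA P hP)
    (hb : b ∈ π.swap.secA P hP) : Commute a b :=
  π.comm P hP a ha.1 ha.2 b hb.1 hb.2

lemma ne_one_of_X {x : G} (hx : x ∈ π.X) : x ≠ 1 := fun h => by
  have := hx.1; rw [h, orderOf_one] at this; omega

lemma not_mem_Y {x : G} (hx : x ∈ π.X) : x ∉ π.Y := fun h =>
  π.ne_one_of_X hx (π.disj x hx.2 h.2)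

lemma conjX (g : G) {x : G} (hx : x ∈ π.X) : g * x * g⁻¹ ∈ π.X :=
  ⟨by rw [← MulAut.conj_apply, MulEquiv.orderOf_eq, hx.1], π.conjA g x hx.2⟩

lemma sq_eq_one_of_X {x : G} (hx : x ∈ π.X) : x * x = 1 := by
  have := pow_orderOf_eq_one x
  rwa [hx.1, pow_two] at this

lemma inv_eq_of_X {x : G} (hx : x ∈ π.X) : x⁻¹ = x :=
  inv_eq_of_mul_eq_one_right (π.sq_eq_one_of_X hx)

/-- Commuting elements of the same member multiply inside it. -/
lemma mulX {x x' : G} (hx : x ∈ π.X) (hx' : x' ∈ π.X) (hc : Commute x x') (hne : x ≠ x') :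
    x * x' ∈ π.X := by
  have hP : IsPGroup 2 (closure ({x, x'} : Set G)) := by
    have h1 : zpowers x ≤ normalizer (zpowers x' : Set G) := by
      rw [zpowers_le]
      refine mem_normalizer_iff.2 fun y => ?_
      constructor
      · intro hy
        obtain ⟨i, rfl⟩ := mem_zpowers_iff.1 hy
        rw [(hc.zpow_right i).eq, mul_inv_cancel_right]
        exact zpow_mem (mem_zpowers x') i
      · intro hy
        obtain ⟨i, hi⟩ := mem_zpowers_iff.1 hy
        have : y = x⁻¹ * x' ^ i * x := by rw [hi]; group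
        rw [this, mul_assoc, ← (hc.zpow_right i).eq, inv_mul_cancel_left]
        exact zpow_mem (mem_zpowers x') i
    refine (IsPGroup.to_sup_of_normal_right' (π.isPGroup_of_A hx.2) (π.isPGroup_of_A hx'.2)
      h1).to_le ?_
    rw [closure_le]
    rintro y (rfl | rfl)
    exacts [mem_sup_left (mem_zpowers _), mem_sup_right (mem_zpowers _)]
  refine ⟨orderOf_eq_prime (p := 2) ?_ ?_,
    π.mulA _ hP x hx.2 (subset_closure (by simp)) x' hx'.2 (subset_closure (by simp))⟩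
  · rw [hc.mul_pow, pow_two, pow_two, π.sq_eq_one_of_X hx, π.sq_eq_one_of_X hx', one_mul]
  · intro h
    exact hne (by rw [mul_eq_one_iff_eq_inv.1 h, π.inv_eq_of_X hx'])

/-- The pair induced on a subgroup. -/
def restrict (H : Subgroup G) : Pair H where
  A := {h | (h : G) ∈ π.A}
  B := {h | (h : G) ∈ π.B}
  conjA := fun g a ha => by simpa using π.conjA (g : G) _ ha
  conjB := fun g a ha => by simpa using π.conjB (g : G) _ ha
  oneA := by simpa using π.oneA
  oneB := by simpa using π.oneB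
  twoA := fun a ha => (π.twoA _ ha).imp fun k hk => Subtype.ext (by simpa using hk)
  twoB := fun a ha => (π.twoB _ ha).imp fun k hk => Subtype.ext (by simpa using hk)
  mulA := fun P hP a ha haP b hb hbP => by
    simpa using π.mulA (P.map H.subtype) (hP.map _) _ ha (mem_map_of_mem _ haP) _ hb
      (mem_map_of_mem _ hbP)
  mulB := fun P hP a ha haP b hb hbP => by
    simpa using π.mulB (P.map H.subtype) (hP.map _) _ ha (mem_map_of_mem _ haP) _ hb
      (mem_map_of_mem _ hbP)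
  disj := fun a ha hb => Subtype.ext (π.disj _ ha hb)
  comm := fun P hP a ha haP b hb hbP => Subtype.ext
    (π.comm (P.map H.subtype) (hP.map _) _ ha (mem_map_of_mem _ haP) _ hb (mem_map_of_mem _ hbP))

lemma orderOf_restrict {H : Subgroup G} (h : H) : orderOf (h : G) = orderOf h :=
  orderOf_injective H.subtype H.subtype_injective h

lemma mem_restrict_X {H : Subgroup G} {h : H} : h ∈ (π.restrict H).X ↔ (h : G) ∈ π.X := by
  show (orderOf h = 2 ∧ (h : G) ∈ π.A) ↔ (orderOf (h : G) = 2 ∧ (h : G) ∈ π.A)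
  rw [orderOf_restrict]

lemma mem_restrict_Y {H : Subgroup G} {h : H} : h ∈ (π.restrict H).Y ↔ (h : G) ∈ π.Y := by
  show (orderOf h = 2 ∧ (h : G) ∈ π.B) ↔ (orderOf (h : G) = 2 ∧ (h : G) ∈ π.B)
  rw [orderOf_restrict]

variable [Finite G]

lemma lift_mem {N : Subgroup G} [N.Normal] {S : Set G}
    (hconj : ∀ (g : G), ∀ a ∈ S, g * a * g⁻¹ ∈ S) (htwo : ∀ a ∈ S, ∃ k : ℕ, a ^ 2 ^ k = 1)
    {P' : Subgroup (G ⧸ N)} (P : Sylow 2 ↥(P'.comap (QuotientGroup.mk' N)))
    {a : G} (ha : a ∈ S) (haP : (a : G ⧸ N) ∈ P')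
    (hcov : P'.comap (QuotientGroup.mk' N) ≤
      ((P : Subgroup ↥(P'.comap (QuotientGroup.mk' N))).map (Subgroup.subtype _)) ⊔ N) :
    ∃ a' ∈ S, a' ∈ (P : Subgroup ↥(P'.comap (QuotientGroup.mk' N))).map (Subgroup.subtype _) ∧
      (a' : G ⧸ N) = (a : G ⧸ N) := by
  haveI : Fact (Nat.Prime 2) := ⟨Nat.prime_two⟩
  have haK : a ∈ P'.comap (QuotientGroup.mk' N) := haP
  obtain ⟨k, hk⟩ := htwo a ha
  have hp : IsPGroup 2 ((zpowers a).subgroupOf (P'.comap (QuotientGroup.mk' N))) :=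
    (isPGroup_zpowers hk).of_equiv (Subgroup.subgroupOfEquivOfLe (zpowers_le.2 haK)).symm
  obtain ⟨T, hT⟩ := hp.exists_le_sylow
  obtain ⟨c, hc⟩ := MulAction.exists_smul_eq (↥(P'.comap (QuotientGroup.mk' N))) T P
  have h1 : (c : G) * a * (c : G)⁻¹ ∈
      (P : Subgroup ↥(P'.comap (QuotientGroup.mk' N))).map (Subgroup.subtype _) := by
    refine ⟨c * ⟨a, haK⟩ * c⁻¹, ?_, by simp⟩
    rw [← hc, Sylow.coe_subgroup_smul]
    exact ⟨⟨a, haK⟩, hT (mem_subgroupOf.2 (mem_zpowers a)), rfl⟩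
  obtain ⟨q, hq, n, hn, hqn⟩ := mem_sup_of_normal_right.1 (hcov c.2)
  refine ⟨n * a * n⁻¹, hconj n a ha, ?_, ?_⟩
  · have := mul_mem (mul_mem (inv_mem hq) h1) hq
    rw [← hqn, show q⁻¹ * (q * n * a * (q * n)⁻¹) * q = n * a * n⁻¹ by group] at this
    exact this
  · rw [QuotientGroup.mk_mul, QuotientGroup.mk_mul, QuotientGroup.mk_inv,
      (QuotientGroup.eq_one_iff n).2 hn, one_mul, inv_one, mul_one]

omit [Finite G] in
lemma coverage_exists [Finite G] (N : Subgroup G) [N.Normal] {P' : Subgroup (G ⧸ N)}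
    (hP' : IsPGroup 2 P') :
    ∃ P : Sylow 2 ↥(P'.comap (QuotientGroup.mk' N)),
      P'.comap (QuotientGroup.mk' N) ≤
        ((P : Subgroup ↥(P'.comap (QuotientGroup.mk' N))).map (Subgroup.subtype _)) ⊔ N := by
  haveI : Fact (Nat.Prime 2) := ⟨Nat.prime_two⟩
  set K := P'.comap (QuotientGroup.mk' N) with hK
  let P : Sylow 2 K := default
  refine ⟨P, fun c hc => ?_⟩
  let f : K →* P' := ((QuotientGroup.mk' N).comp K.subtype).codRestrict P' fun k => k.2
  have hf : Function.Surjective f := fun q => by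
    obtain ⟨g, hg⟩ := QuotientGroup.mk'_surjective N (q : G ⧸ N)
    exact ⟨⟨g, by show QuotientGroup.mk' N g ∈ P'; rw [hg]; exact q.2⟩, Subtype.ext hg⟩
  have htop : (P.mapSurjective hf : Subgroup P') = ⊤ := by
    refine (P.mapSurjective hf).3 (Q := (⊤ : Subgroup P')) ?_ le_top |>.symm
    exact hP'.of_equiv Subgroup.topEquiv.symm
  have : f ⟨c, hc⟩ ∈ (P : Subgroup K).map f := by
    have := htop ▸ mem_top (f ⟨c, hc⟩)
    simpa using this
  obtain ⟨p, hp, hpc⟩ := this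
  have he : (p : G) ⁻¹ * c ∈ N := by
    have := congrArg Subtype.val hpc
    exact (QuotientGroup.eq).1 this
  refine mem_sup_of_normal_right.2 ⟨p, ⟨p, hp, rfl⟩, (p : G)⁻¹ * c, he, by group⟩

/-- The image pair in a quotient, when the images stay disjoint. -/
def quotient (N : Subgroup G) [N.Normal]
    (hd : ∀ a ∈ π.A, ∀ b ∈ π.B, (a : G ⧸ N) = (b : G ⧸ N) → (a : G ⧸ N) = 1) :
    Pair (G ⧸ N) where
  A := (QuotientGroup.mk : G → G ⧸ N) '' π.A
  B := (QuotientGroup.mk : G → G ⧸ N) '' π.B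
  conjA := by
    rintro q _ ⟨a, ha, rfl⟩
    induction q using QuotientGroup.induction_on with
    | _ g => exact ⟨g * a * g⁻¹, π.conjA g a ha, rfl⟩
  conjB := by
    rintro q _ ⟨a, ha, rfl⟩
    induction q using QuotientGroup.induction_on with
    | _ g => exact ⟨g * a * g⁻¹, π.conjB g a ha, rfl⟩
  oneA := ⟨1, π.oneA, rfl⟩
  oneB := ⟨1, π.oneB, rfl⟩
  twoA := by
    rintro _ ⟨a, ha, rfl⟩
    exact (π.twoA a ha).imp fun k hk => by rw [← QuotientGroup.mk_pow, hk]; rfl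
  twoB := by
    rintro _ ⟨a, ha, rfl⟩
    exact (π.twoB a ha).imp fun k hk => by rw [← QuotientGroup.mk_pow, hk]; rfl
  mulA := by
    rintro P' hP' _ ⟨a, ha, rfl⟩ haP _ ⟨b, hb, rfl⟩ hbP
    obtain ⟨P, hcov⟩ := coverage_exists N hP'
    obtain ⟨a', ha', ha'P, hea⟩ := lift_mem π.conjA π.twoA P ha haP hcov
    obtain ⟨b', hb', hb'P, heb⟩ := lift_mem π.conjA π.twoA P hb hbP hcov
    exact ⟨a' * b', π.mulA _ (P.2.map _) a' ha' ha'P b' hb' hb'P, by
      rw [QuotientGroup.mk_mul, hea, heb]⟩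
  mulB := by
    rintro P' hP' _ ⟨a, ha, rfl⟩ haP _ ⟨b, hb, rfl⟩ hbP
    obtain ⟨P, hcov⟩ := coverage_exists N hP'
    obtain ⟨a', ha', ha'P, hea⟩ := lift_mem π.conjB π.twoB P ha haP hcov
    obtain ⟨b', hb', hb'P, heb⟩ := lift_mem π.conjB π.twoB P hb hbP hcov
    exact ⟨a' * b', π.mulB _ (P.2.map _) a' ha' ha'P b' hb' hb'P, by
      rw [QuotientGroup.mk_mul, hea, heb]⟩
  disj := by
    rintro _ ⟨a, ha, rfl⟩ ⟨b, hb, he⟩
    exact hd a ha b hb he.symm
  comm := by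
    rintro P' hP' _ ⟨a, ha, rfl⟩ haP _ ⟨b, hb, rfl⟩ hbP
    obtain ⟨P, hcov⟩ := coverage_exists N hP'
    obtain ⟨a', ha', ha'P, hea⟩ := lift_mem π.conjA π.twoA P ha haP hcov
    obtain ⟨b', hb', hb'P, heb⟩ := lift_mem π.conjB π.twoB P hb hbP hcov
    rw [← hea, ← heb]
    exact (π.comm _ (P.2.map _) a' ha' ha'P b' hb' hb'P).map (QuotientGroup.mk' N)

/-- Images stay disjoint modulo an odd normal subgroup. -/
lemma disj_mod_odd {N : Subgroup G} [N.Normal] (hN : Odd (Nat.card N)) :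
    ∀ a ∈ π.A, ∀ b ∈ π.B, (a : G ⧸ N) = (b : G ⧸ N) → (a : G ⧸ N) = 1 := by
  intro a ha b hb he
  haveI : Fact (Nat.Prime 2) := ⟨Nat.prime_two⟩
  have hP' : IsPGroup 2 (zpowers (a : G ⧸ N)) := by
    obtain ⟨k, hk⟩ := π.twoA a ha
    exact isPGroup_zpowers (k := k) (by rw [← QuotientGroup.mk_pow, hk]; rfl)
  obtain ⟨P, hcov⟩ := coverage_exists N hP'
  obtain ⟨a', ha', ha'P, hea⟩ := lift_mem π.conjA π.twoA P ha (mem_zpowers _) hcov
  obtain ⟨b', hb', hb'P, heb⟩ := lift_mem π.conjB π.twoB P hb (by rw [← he]; exact mem_zpowers _) hcov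
  set Q := (P : Subgroup ↥((zpowers (a : G ⧸ N)).comap (QuotientGroup.mk' N))).map (Subgroup.subtype _)
  have hmem : a'⁻¹ * b' ∈ N := (QuotientGroup.eq).1 (by rw [hea, heb, he])
  have hQmem : a'⁻¹ * b' ∈ Q := Q.mul_mem (Q.inv_mem ha'P) hb'P
  have h1 : a'⁻¹ * b' = 1 := by
    have hQ : IsPGroup 2 Q := P.2.map _
    obtain ⟨k, hk⟩ := hQ ⟨_, hQmem⟩
    have hk' : (a'⁻¹ * b') ^ 2 ^ k = 1 := congrArg Subtype.val hk
    rw [← orderOf_eq_one_iff]
    refine Nat.eq_one_of_dvd_coprimes (a := 2 ^ k) (b := Nat.card N)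
      ((Nat.coprime_two_left.2 hN).pow_left k) (orderOf_dvd_of_pow_eq_one hk') ?_
    exact N.orderOf_dvd_natCard hmem
  have : a' = b' := inv_mul_eq_one.1 h1
  rw [← hea, π.disj a' ha' (this ▸ hb')]
  rfl

end Pair

end Cfsg.Agent.ProductFusion
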