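import Cfsg.Agent.GStructB.ProductFusion.Functor
import Cfsg.Agent.Lib.Coprime.Generation

/-!
# Completeness, and the dependence of `W` on a single element

`W(E)` is generated by the `θ(a) = ⁅O(C(a)), b⁆ (O(C(a)) ∩ O(C(b)))` over `a ∈ P#`, for any
single `b ∈ R#`.
-/

set_option autoImplicit false
set_option linter.style.haveILetI false
set_option linter.unusedSectionVars false

open Subgroup
open scoped commutatorElement

namespace Cfsg.Agent.ProductFusion

universe u

variable {G : Type u} [Group G] [Finite G]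

local notation "O[" t "]" => Cfsg.centralizerPPrimeCore 2 t

/-- The intrinsic value on `a`, seen from `b`. -/
def phi (a b : G) : Subgroup G := ⁅O[a], zpowers b⁆ ⊔ (O[a] ⊓ O[b])

/-- `W(E)` computed from `P` and a single `b`. -/
def wP (P : Subgroup G) (b : G) : Subgroup G :=
  ⨆ a : {a : G // a ∈ P ∧ a ≠ 1}, phi (a : G) b

variable {π : Pair G} {P R : Subgroup G} (h : Ctx π) (q : Quad π P R)

local notation "E₁" => P ⊔ R

/-- The subgroup generated by two elements. -/
def two (s t : G) : Subgroup G := zpowers s ⊔ zpowers t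

include q

lemma two_le {s t : G} (hs : s ∈ E₁) (ht : t ∈ E₁) : two s t ≤ E₁ :=
  sup_le (zpowers_le.2 hs) (zpowers_le.2 ht)

lemma le_centralizer_two {s t : G} {X : Subgroup G} (hs : ∀ x ∈ X, Commute s x)
    (ht : ∀ x ∈ X, Commute t x) : X ≤ centralizer (two s t : Set G) := by
  intro x hx
  have : two s t ≤ centralizer ({x} : Set G) := sup_le
    (zpowers_le.2 (mem_cent_iff.2 (hs x hx).symm)) (zpowers_le.2 (mem_cent_iff.2 (ht x hx).symm))
  exact mem_centralizer_iff.2 fun e he => (mem_cent_iff.1 (this he)).eq.symm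

lemma two_eq {S : Subgroup G} (hS : S ≤ E₁) (h4 : Nat.card S = 4) {s t : G} (hs : s ∈ S)
    (ht : t ∈ S) (hs1 : s ≠ 1) (ht1 : t ≠ 1) (hts : t ≠ s) : two s t = S :=
  Subgroup.eq_of_le_of_card_ge (sup_le (zpowers_le.2 hs) (zpowers_le.2 ht))
    (by rw [h4, two, q.card_pair (hS hs) (hS ht) hs1 ht1 hts])

lemma gTwo_comm_right {s r : G} (hs : s ∈ E₁) (hr : r ∈ E₁) :
    gTwo E₁ (two s r) ≤ centralizer ({r} : Set G) :=
  fun f hf => mem_cent_iff.2 ((mem_delta.1 (gTwo_le q (two_le q hs hr) hf)).1 r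
    (mem_sup_right (mem_zpowers r)))

lemma two_card_sup {s r r' : G} (hs : s ∈ E₁) (hr : r ∈ E₁) (hr' : r' ∈ E₁) (hs1 : s ≠ 1)
    (hr1 : r ≠ 1) (hrs : r ≠ s) : Nat.card ↥(two s r ⊔ two s r') ≤ 8 := by
  have h4 := q.card_pair hs hr hs1 hr1 hrs
  have hle : two s r ⊔ two s r' = two s r ⊔ zpowers r' := by
    rw [two, two]; ac_rfl
  rw [hle]
  by_cases hmem : r' ∈ two s r
  · rw [sup_eq_left.2 (zpowers_le.2 hmem)]
    exact le_of_eq_of_le h4 (by norm_num)
  · rw [q.card_sup_zpowers (two_le q hs hr) hr' hmem]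
    exact le_of_eq (by rw [show Nat.card ↥(two s r) = 4 from h4])

include h

lemma theta_spec {s : G} (hs : s ∈ E₁) (hs1 : s ≠ 1) :
    Odd (Nat.card (theta E₁ s)) ∧
      ∀ t ∈ E₁, t ≠ 1 → t ≠ s → theta E₁ s ⊓ centralizer ({t} : Set G) = gTwo E₁ (two s t) := by
  haveI : Fact (Nat.Prime 2) := ⟨Nat.prime_two⟩
  obtain ⟨H, hH, h8, hsH⟩ := q.exists_avoiding hs hs1
  have hne : ∀ {r : G}, r ∈ H → r ≠ s := fun hr e => hsH (e ▸ hr)
  have h4 : ∀ {r : G}, r ∈ H → r ≠ 1 → Nat.card ↥(two s r) = 4 := fun hr hr1 =>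
    q.card_pair hs (hH hr) hs1 hr1 (hne hr)
  obtain ⟨hodd, hcomp⟩ := Cfsg.Agent.S0217.result (p := 2) H
    (fun a ha b hb => (q.commE a (hH ha) b (hH hb)).eq)
    (fun a ha => by rw [pow_two, q.sqE a (hH ha)]) (by rw [h8]; norm_num)
    (fun r => gTwo E₁ (two s r))
    (fun r hr _ => gTwo_comm_right q hs (hH hr))
    (fun r hr hr1 => by
      rw [← even_iff_two_dvd, Nat.not_even_iff_odd]
      exact gTwo_odd q (two_le q hs (hH hr)) (h4 hr hr1))
    (fun r _ _ e he x hx => (mem_normalizer_iff.1 (E_le_normalizer_gTwo q (hH he)) x).1 hx)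
    (fun r hr hr1 => Cfsg.Agent.S0205.result (gTwo_odd q (two_le q hs (hH hr)) (h4 hr hr1)))
    (fun r hr hr1 r' hr' hr'1 => by
      refine le_trans ?_ (gTwo_balance h q (two_le q hs (hH hr)) (two_le q hs (hH hr'))
        (h4 hr hr1) (h4 hr' hr'1) (two_card_sup q hs (hH hr) (hH hr') hs1 hr1 (hne hr)))
      rintro f ⟨hf, hfr⟩
      refine ⟨hf, le_centralizer_two q (X := zpowers f) ?_ ?_ (mem_zpowers f)⟩
      · intro x hx
        obtain ⟨i, rfl⟩ := mem_zpowers_iff.1 hx
        exact ((mem_delta.1 (gTwo_le q (two_le q hs (hH hr)) hf)).1 s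
          (mem_sup_left (mem_zpowers s))).zpow_right i
      · intro x hx
        obtain ⟨i, rfl⟩ := mem_zpowers_iff.1 hx
        exact (mem_cent_iff.1 hfr).zpow_right i)
  have hkey : ∀ S : Subgroup G, S ≤ E₁ → Nat.card S = 4 → s ∈ S →
      ∃ r, r ∈ H ∧ r ≠ 1 ∧ two s r = S := by
    intro S hS hS4 hsS
    obtain ⟨r, hr1, hrS, hrH⟩ := exists_ne_one_inf hS hH q.commE
      (by rw [q.cardE, hS4, h8]; norm_num)
    exact ⟨r, hrH, hr1, two_eq q hS hS4 hsS hrS hs1 hr1 (hne hrH)⟩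
  have heq : (⨆ a : {a : G // a ∈ H ∧ a ≠ 1}, gTwo E₁ (two s (a : G))) = theta E₁ s := by
    refine le_antisymm (iSup_le fun ⟨r, hr, hr1⟩ => ?_) (iSup_le fun ⟨S, hS, hS4, hsS⟩ => ?_)
    · exact le_iSup (fun S : {S : Subgroup G // S ≤ E₁ ∧ Nat.card S = 4 ∧ s ∈ S} =>
        gTwo E₁ (S : Subgroup G)) ⟨two s r, two_le q hs (hH hr), h4 hr hr1, mem_sup_left (mem_zpowers s)⟩
    · obtain ⟨r, hr, hr1, rfl⟩ := hkey S hS hS4 hsS
      exact le_iSup (fun a : {a : G // a ∈ H ∧ a ≠ 1} => gTwo E₁ (two s (a : G))) ⟨r, hr, hr1⟩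
  rw [heq] at hodd hcomp
  refine ⟨Nat.not_even_iff_odd.1 (even_iff_two_dvd.not.2 hodd), fun t ht ht1 hts => ?_⟩
  have hS4 := q.card_pair hs ht hs1 ht1 hts
  obtain ⟨r, hr, hr1, he⟩ := hkey (two s t) (two_le q hs ht) hS4 (mem_sup_left (mem_zpowers s))
  rw [← he, ← hcomp r hr hr1]
  have hsc : ∀ x ∈ theta E₁ s, Commute s x := by
    have : theta E₁ s ≤ centralizer ({s} : Set G) := iSup_le fun ⟨S, hS, _, hsS⟩ =>
      fun f hf => mem_cent_iff.2 ((mem_delta.1 (gTwo_le q hS hf)).1 s hsS)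
    exact fun x hx => mem_cent_iff.1 (this hx)
  ext x
  simp only [mem_inf]
  refine and_congr_right fun hx => ⟨fun hxt => ?_, fun hxr => ?_⟩
  · have : two s t ≤ centralizer ({x} : Set G) := sup_le
      (zpowers_le.2 (mem_cent_iff.2 (hsc x hx).symm))
      (zpowers_le.2 (mem_cent_iff.2 (mem_cent_iff.1 hxt).symm))
    exact mem_cent_iff.2 (mem_cent_iff.1 (this (he ▸ mem_sup_right (mem_zpowers r)))).symm
  · have : two s r ≤ centralizer ({x} : Set G) := sup_le
      (zpowers_le.2 (mem_cent_iff.2 (hsc x hx).symm))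
      (zpowers_le.2 (mem_cent_iff.2 (mem_cent_iff.1 hxr).symm))
    exact mem_cent_iff.2 (mem_cent_iff.1 (this (he ▸ mem_sup_right (mem_zpowers t)))).symm

lemma theta_le_core {s : G} (hs1 : s ≠ 1) : theta E₁ s ≤ O[s] :=
  iSup_le fun ⟨_, hS, _, hsS⟩ => fun _ hf => (mem_delta.1 (gTwo_le q hS hf)).2 s hsS hs1

lemma E_le_normalizer_theta {s : G} : E₁ ≤ normalizer (theta E₁ s : Set G) := by
  refine le_normalizer_iff.2 fun e he x hx => ?_
  have : theta E₁ s ≤ (theta E₁ s).comap (MulAut.conj e).toMonoidHom := iSup_le fun i y hy =>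
    le_iSup (fun i : {S : Subgroup G // S ≤ E₁ ∧ Nat.card S = 4 ∧ s ∈ S} => gTwo E₁ (i : Subgroup G)) i
      ((mem_normalizer_iff.1 (E_le_normalizer_gTwo q he) y).1 hy)
  exact this hx

lemma gTwo_le_theta {s : G} {S : Subgroup G} (hS : S ≤ E₁) (h4 : Nat.card S = 4) (hs : s ∈ S) :
    gTwo E₁ S ≤ theta E₁ s :=
  le_iSup (fun S : {S : Subgroup G // S ≤ E₁ ∧ Nat.card S = 4 ∧ s ∈ S} =>
    gTwo E₁ (S : Subgroup G)) ⟨S, hS, h4, hs⟩

/-- Completeness of the functor on the quad. -/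
lemma wsub_spec : Odd (Nat.card (wsub E₁)) ∧
    ∀ s ∈ E₁, s ≠ 1 → wsub E₁ ⊓ centralizer ({s} : Set G) = theta E₁ s := by
  haveI : Fact (Nat.Prime 2) := ⟨Nat.prime_two⟩
  obtain ⟨hodd, hcomp⟩ := Cfsg.Agent.S0217.result (p := 2) E₁
    (fun a ha b hb => (q.commE a ha b hb).eq)
    (fun a ha => by rw [pow_two, q.sqE a ha]) (by rw [q.cardE]; norm_num) (theta E₁)
    (fun s _ hs1 => (theta_le_core h q hs1).trans
      (Components.Balance.centralizerPPrimeCore_le_centralizer 2 s))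
    (fun s hs hs1 => by
      rw [← even_iff_two_dvd, Nat.not_even_iff_odd]
      exact (theta_spec h q hs hs1).1)
    (fun s _ _ e he x hx => (mem_normalizer_iff.1 (E_le_normalizer_theta h q he) x).1 hx)
    (fun s hs hs1 => Cfsg.Agent.S0205.result (theta_spec h q hs hs1).1)
    (fun s hs hs1 t ht ht1 => by
      by_cases hts : t = s
      · subst hts; exact inf_le_left
      rw [(theta_spec h q hs hs1).2 t ht ht1 hts]
      exact gTwo_le_theta h q (two_le q hs ht) (q.card_pair hs ht hs1 ht1 hts)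
        (mem_sup_right (mem_zpowers t)))
  exact ⟨Nat.not_even_iff_odd.1 (even_iff_two_dvd.not.2 hodd), hcomp⟩

/-- The value on a member of `P`. -/
lemma theta_eq_phi {a b : G} (ha : a ∈ P) (ha1 : a ≠ 1) (hb : b ∈ R) (hb1 : b ≠ 1) :
    theta E₁ a = phi a b := by
  have haE : a ∈ E₁ := mem_sup_left ha
  have hbE : b ∈ E₁ := mem_sup_right hb
  set O := O[a] with hO
  have hEO : E₁ ≤ normalizer (O : Set G) := fun e he =>
    Components.Balance.le_normalizer_centralizerPPrimeCore 2 a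
      (mem_cent_iff.2 (q.commE a haE e he))
  have hne : ∀ v ∈ R, v ≠ 1 → v ≠ a := fun v hv hv1 e =>
    π.not_mem_Y (q.memP a ha ha1) (e ▸ q.memR v hv hv1)
  have hinf : ∀ v ∈ R, v ≠ 1 → O ⊓ O[v] ≤ gTwo E₁ (two a v) := by
    intro v hv hv1
    have hvE : v ∈ E₁ := mem_sup_right hv
    set S := two a v with hS
    have hle : O ⊓ O[v] ≤ delta S := by
      rintro f ⟨hfa, hfv⟩
      have h1 : S ≤ centralizer ({f} : Set G) := sup_le
        (zpowers_le.2 (mem_cent_iff.2 (core_commute hfa).symm))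
        (zpowers_le.2 (mem_cent_iff.2 (core_commute hfv).symm))
      refine mem_delta.2 ⟨fun s hs => (mem_cent_iff.1 (h1 hs)).symm, fun s hs hs1 => ?_⟩
      have hsE : s ∈ E₁ := two_le q haE hvE hs
      exact factC h (q.not_center h hsE hs1) (mem_cent_iff.1 (h1 hs)).symm hfa hfv
        (q.memP a ha ha1) (q.commE s hsE a haE) (q.memR v hv hv1) (q.commE s hsE v hvE)
    refine hle.trans ?_
    have hodd : Odd (Nat.card (delta S)) := delta_odd (mem_sup_left (mem_zpowers a)) ha1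
    rw [← Coprime.commutator_sup_inf_centralizer (E_le_normalizer_delta q (two_le q haE hvE))
      (by rw [q.cardE]; exact Nat.Coprime.pow_left 4 (Nat.coprime_two_left.2 hodd))
      (Or.inr (Cfsg.Agent.S0205.result hodd))]
    refine sup_le le_sup_left ?_
    rintro f ⟨hf, hfE⟩
    have hfE' : ∀ e ∈ E₁, Commute e f := fun e he => mem_centralizer_iff.1 hfE e he
    refine mem_sup_right (mem_delta.2 ⟨hfE', fun r hr hr1 => ?_⟩)
    exact factC h (q.not_center h hr hr1) (hfE' r hr)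
      ((mem_delta.1 hf).2 a (mem_sup_left (mem_zpowers a)) ha1)
      ((mem_delta.1 hf).2 v (mem_sup_right (mem_zpowers v)) hv1)
      (q.memP a ha ha1) (q.commE r hr a haE) (q.memR v hv hv1) (q.commE r hr v hvE)
  have hinf' : ∀ v ∈ R, v ≠ 1 → O ⊓ O[v] ≤ theta E₁ a := fun v hv hv1 =>
    (hinf v hv hv1).trans (gTwo_le_theta h q (two_le q haE (mem_sup_right hv))
      (q.card_pair haE (mem_sup_right hv) ha1 hv1 (hne v hv hv1)) (mem_sup_left (mem_zpowers a)))
  have hodd : Odd (Nat.card O) := core_odd a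
  refine le_antisymm ?_ (sup_le ?_ (hinf' b hb hb1))
  · have hbn : zpowers b ≤ normalizer (theta E₁ a : Set G) :=
      (zpowers_le.2 hbE).trans (E_le_normalizer_theta h q)
    have hodd' := (theta_spec h q haE ha1).1
    rw [← Coprime.commutator_sup_inf_centralizer hbn (by
      rw [Nat.card_zpowers]
      exact (Nat.coprime_two_left.2 hodd').coprime_dvd_left
        (orderOf_dvd_of_pow_eq_one (by rw [pow_two, q.sqE b hbE])))
      (Or.inr (Cfsg.Agent.S0205.result hodd'))]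
    refine sup_le_sup (commutator_mono (theta_le_core h q ha1) le_rfl) ?_
    rintro f ⟨hf, hfb⟩
    have hmem : f ∈ theta E₁ a ⊓ centralizer ({b} : Set G) :=
      ⟨hf, mem_cent_iff.2 (mem_centralizer_iff.1 hfb b (mem_zpowers b))⟩
    rw [(theta_spec h q haE ha1).2 b hbE hb1 (hne b hb hb1)] at hmem
    have := mem_delta.1 (gTwo_le q (two_le q haE hbE) hmem)
    exact ⟨this.2 a (mem_sup_left (mem_zpowers a)) ha1, this.2 b (mem_sup_right (mem_zpowers b)) hb1⟩
  refine (commutator_mono le_rfl (zpowers_le.2 hb)).trans ?_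
  set L := ⁅O, R⁆ with hL
  have hRO : R ≤ normalizer (O : Set G) := le_sup_right.trans hEO
  have hLO : L ≤ O := Coprime.commutator_le_of_le_normalizer hRO
  have hLodd : Odd (Nat.card L) := hodd.of_dvd_nat (card_dvd_of_le hLO)
  have hcop : ∀ {X : Subgroup G}, Odd (Nat.card X) → (Nat.card R).Coprime (Nat.card X) := fun hX => by
    rw [q.cardR]; exact Nat.Coprime.pow_left 2 (Nat.coprime_two_left.2 hX)
  have hLL : ⁅L, R⁆ = L := Coprime.commutator_commutator_eq hRO (hcop hodd)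
    (Or.inr (Cfsg.Agent.S0205.result hodd))
  have hRab : IsMulCommutative ↥R := ⟨⟨fun x y => Subtype.ext (q.commR x.2 y.2).eq⟩⟩
  have hRelem : Cfsg.IsElementaryAbelian 2 R := ⟨hRab, fun x hx => by rw [pow_two, q.sqR hx]⟩
  have hmoved : ∀ v ∈ R, v ≠ 1 → ⁅L ⊓ centralizer ({v} : Set G), R⁆ ≤ theta E₁ a := by
    intro v hv hv1
    rw [commutator_le]
    rintro u ⟨hu, huv⟩ w hw
    have huv' : Commute v u := mem_cent_iff.1 huv
    by_cases hcu : Commute u w
    · rw [commutatorElement_eq_one_iff_commute.2 hcu]; exact one_mem _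
    have hw1 : w ≠ 1 := fun e => hcu (e ▸ Commute.one_right u)
    have hvw : Commute v w := q.commR hv hw
    have hfO : ⁅u, w⁆ ∈ O := hLO (hLL.le (commutator_mem_commutator hu hw))
    have hfv : Commute v ⁅u, w⁆ := by
      rw [commutatorElement_def]
      exact ((huv'.mul_right hvw).mul_right huv'.inv_right).mul_right hvw.inv_right
    have hwf : w * ⁅u, w⁆ * w⁻¹ = ⁅u, w⁆⁻¹ := by
      rw [commutatorElement_def]
      simp only [mul_inv_rev, inv_inv, q.invE (mem_sup_right hw)]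
      simp only [mul_assoc, q.sqR hw, mul_one]
    refine hinf' v hv hv1 ⟨hfO, ?_⟩
    exact factB h.swap (q.not_center h (mem_sup_right hv) hv1) hfv hfO (q.memR w hw hw1) hvw
      (q.memP a ha ha1) (q.commE v (mem_sup_right hv) a haE) hwf
  have hfix : L ⊓ centralizer (R : Set G) ≤ theta E₁ a :=
    SolvableSignalizer.CoreSeparated.fixedGenerated (fun H hH => Cfsg.Agent.S0205.result hH)
      R L _ hRelem q.cardR hLodd (normalizer_commutator_ge_right _ _) hLL
      (fun v hv hv1 => inf_le_right.trans (hmoved v hv hv1))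
  have hncyc : ¬ IsCyclic R := by
    intro hc
    obtain ⟨g, hg⟩ := hc.exists_generator
    have h1 := orderOf_eq_card_of_forall_mem_zpowers hg
    have h2 : orderOf g ∣ 2 := orderOf_dvd_of_pow_eq_one
      (Subtype.ext (by push_cast; rw [pow_two, q.sqR g.2]))
    rw [h1, q.cardR] at h2
    norm_num at h2
  haveI := hRab
  rw [← (Coprime.fixedGen_eq hncyc (normalizer_commutator_ge_right O R) (hcop hLodd) :
    Coprime.fixedGen R L = L)]
  refine iSup₂_le fun v hv => ?_
  have hvn : R ≤ normalizer ((L ⊓ centralizer ({v} : Set G) : Subgroup G) : Set G) := by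
    refine (le_inf (normalizer_commutator_ge_right O R) ?_).trans
      Subgroup.inf_normalizer_le_normalizer_inf
    exact le_trans (fun w hw => mem_cent_iff.2 (q.commR hv.1 hw)) Subgroup.le_normalizer
  have hvodd : Odd (Nat.card ↥(L ⊓ centralizer ({v} : Set G))) :=
    hLodd.of_dvd_nat (card_dvd_of_le inf_le_left)
  rw [← Coprime.commutator_sup_inf_centralizer hvn (hcop hvodd)
    (Or.inr (Cfsg.Agent.S0205.result hvodd))]
  exact sup_le (hmoved v hv.1 hv.2) ((inf_le_inf_right _ inf_le_left).trans hfix)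

/-- `W(E)` depends only on `P` and one element of `R`. -/
theorem wsub_eq_wP {b : G} (hb : b ∈ R) (hb1 : b ≠ 1) : wsub E₁ = wP P b := by
  haveI : IsMulCommutative ↥P := ⟨⟨fun x y => Subtype.ext (q.commP x.2 y.2).eq⟩⟩
  obtain ⟨hodd, hspec⟩ := wsub_spec h q
  refine le_antisymm ?_ (iSup_le fun ⟨a, ha, ha1⟩ => ?_)
  · have hncyc : ¬ IsCyclic P := by
      intro hc
      obtain ⟨g, hg⟩ := hc.exists_generator
      have h1 := orderOf_eq_card_of_forall_mem_zpowers hg
      have h2 : orderOf g ∣ 2 := orderOf_dvd_of_pow_eq_one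
        (Subtype.ext (by push_cast; rw [pow_two, q.sqP g.2]))
      rw [h1, q.cardP] at h2
      norm_num at h2
    have hPn : P ≤ normalizer (wsub E₁ : Set G) := by
      refine le_normalizer_iff.2 fun e he x hx => ?_
      have : wsub E₁ ≤ (wsub E₁).comap (MulAut.conj e).toMonoidHom := iSup_le fun i y hy =>
        le_iSup (fun i : {s : G // s ∈ E₁ ∧ s ≠ 1} => theta E₁ (i : G)) i
          ((mem_normalizer_iff.1 (E_le_normalizer_theta h q (mem_sup_left he)) y).1 hy)
      exact this hx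
    rw [← Coprime.fixedGen_eq hncyc hPn (by
      rw [q.cardP]; exact Nat.Coprime.pow_left 2 (Nat.coprime_two_left.2 hodd))]
    refine iSup₂_le fun a ha => ?_
    rw [hspec a (mem_sup_left ha.1) ha.2, theta_eq_phi h q ha.1 ha.2 hb hb1]
    exact le_iSup (fun a : {a : G // a ∈ P ∧ a ≠ 1} => phi (a : G) b) ⟨a, ha.1, ha.2⟩
  · rw [← theta_eq_phi h q ha ha1 hb hb1]
    exact le_iSup (fun i : {s : G // s ∈ E₁ ∧ s ≠ 1} => theta E₁ (i : G))
      ⟨a, mem_sup_left ha, ha1⟩

end Cfsg.Agent.ProductFusion
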