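import Cfsg.Agent.GStructB.ProductFusion.Main
import Cfsg.Agent.InvChar.Core

/-!
# Product fusion with dihedral factors

A group without odd core whose Sylow 2-subgroup has product fusion with two dihedral factors, one of
them nonabelian, is a direct product.
-/

set_option autoImplicit false
set_option linter.style.haveILetI false
set_option linter.unusedSectionVars false

open Subgroup
open scoped commutatorElement

namespace Cfsg.Agent.ProductFusion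

universe u

variable {G : Type u} [Group G] [Finite G]

/-- A Sylow 2-subgroup meets a normal subgroup in odd relative index. -/
lemma odd_relIndex_normal (T : Sylow 2 G) (K : Subgroup G) [K.Normal] :
    Odd ((T : Subgroup G).relIndex K) := by
  haveI : Fact (Nat.Prime 2) := ⟨Nat.prime_two⟩
  set P := (T : Subgroup G) with hP
  have h1 : P.relIndex (P ⊔ K) * Nat.card P = Nat.card ↥(P ⊔ K) := by
    rw [mul_comm, ← relIndex_bot_left, ← relIndex_bot_left,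
      relIndex_mul_relIndex _ _ _ bot_le le_sup_left]
  have h2 : K.relIndex (P ⊔ K) * Nat.card K = Nat.card ↥(P ⊔ K) := by
    rw [mul_comm, ← relIndex_bot_left, ← relIndex_bot_left,
      relIndex_mul_relIndex _ _ _ bot_le le_sup_right]
  have h3 : P.relIndex K * Nat.card ↥(P ⊓ K) = Nat.card K := by
    rw [mul_comm, ← relIndex_bot_left, ← relIndex_bot_left, ← inf_relIndex_right P K,
      relIndex_mul_relIndex _ _ _ bot_le inf_le_right]
  have h4 : K.relIndex P * Nat.card ↥(P ⊓ K) = Nat.card P := by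
    rw [mul_comm, ← relIndex_bot_left, ← relIndex_bot_left, ← inf_relIndex_left P K,
      relIndex_mul_relIndex _ _ _ bot_le inf_le_left]
  rw [relIndex_sup_right] at h2
  have h5 : P.relIndex (P ⊔ K) = P.relIndex K := by
    have h6 : P.relIndex (P ⊔ K) * Nat.card P = P.relIndex K * Nat.card P := by
      rw [h1, ← h2, ← h3, ← h4]; ring
    exact Nat.eq_of_mul_eq_mul_right Nat.card_pos h6
  rw [← h5]
  exact (Nat.not_even_iff_odd.1 fun h => T.not_dvd_index h.two_dvd).of_dvd_nat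
    (Dvd.intro _ (relIndex_mul_index (H := P) le_sup_left))

/-- A subgroup generated by commuting subgroups consists of products. -/
lemma mem_sup_of_commute {A B : Subgroup G} (hc : ∀ a ∈ A, ∀ b ∈ B, a * b = b * a) {x : G}
    (hx : x ∈ A ⊔ B) : ∃ a ∈ A, ∃ b ∈ B, x = a * b := by
  have hcom : ∀ (a : A) (b : B), Commute (A.subtype a) (B.subtype b) := fun a b => hc a a.2 b b.2
  have : A ⊔ B = (A.subtype.noncommCoprod B.subtype hcom).range := by
    rw [MonoidHom.noncommCoprod_range, range_subtype, range_subtype]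
  rw [this] at hx
  obtain ⟨⟨a, b⟩, rfl⟩ := hx
  exact ⟨a, a.2, b, b.2, rfl⟩

/-- Transfer to a central direct factor of a Sylow 2-subgroup of a subgroup `K`. -/
lemma exists_retraction (T : Sylow 2 G) (K : Subgroup G) [K.Normal] (A S₁ : Subgroup G)
    (hAT : A ≤ (T : Subgroup G)) (hAc : A ≤ center G) (hd : S₁ ⊓ A = ⊥)
    (hdec : ∀ t ∈ (T : Subgroup G), t ∈ K → ∃ a ∈ A, ∃ s ∈ S₁, t = a * s) :
    ∃ τ : ↥K →* ↥A, ∀ k : ↥K, ∀ h : (k : G) ∈ A, τ k = ⟨(k : G), h⟩ := by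
  haveI : Fact (Nat.Prime 2) := ⟨Nat.prime_two⟩
  have hcomm : ∀ a ∈ A, ∀ x : G, x * a = a * x := fun a ha => mem_center_iff.1 (hAc ha)
  letI : CommGroup ↥A :=
    { (inferInstance : Group ↥A) with mul_comm := fun a b => Subtype.ext (hcomm b b.2 a) }
  set P := ((T : Subgroup G) ⊓ K).subgroupOf K with hP
  have hodd : Odd P.index := by
    rw [hP, ← relIndex, inf_relIndex_right]
    exact odd_relIndex_normal T K
  -- the projection
  have huniq : ∀ a ∈ A, ∀ s ∈ S₁, ∀ a' ∈ A, ∀ s' ∈ S₁, a * s = a' * s' → a = a' := by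
    intro a ha s hs a' ha' s' hs' h
    have h1 : a'⁻¹ * a = s' * s⁻¹ := by
      rw [eq_mul_inv_iff_mul_eq, mul_assoc, h]; group
    have : a'⁻¹ * a ∈ S₁ ⊓ A := mem_inf.2
      ⟨by rw [h1]; exact mul_mem hs' (inv_mem hs), mul_mem (inv_mem ha') ha⟩
    rw [hd, mem_bot, inv_mul_eq_one] at this
    exact this.symm
  choose pa hpa ps hps hpe using fun t : P =>
    hdec ((t : ↥K) : G) (mem_subgroupOf.1 t.2).1 (t : ↥K).2
  let φ : P →* ↥A :=
    MonoidHom.mk' (fun t => ⟨pa t, hpa t⟩) fun t t' => Subtype.ext <| by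
      show pa (t * t') = pa t * pa t'
      refine huniq _ (hpa (t * t')) _ (hps (t * t')) _ (mul_mem (hpa t) (hpa t')) _ (mul_mem (hps t) (hps t')) ?_
      rw [← hpe, Subgroup.coe_mul, Subgroup.coe_mul, hpe t, hpe t']
      rw [mul_assoc, ← mul_assoc (ps t), hcomm _ (hpa t') (ps t)]
      group
  have hφA : ∀ (t : P) (h : ((t : ↥K) : G) ∈ A), φ t = ⟨((t : ↥K) : G), h⟩ := by
    intro t h
    refine Subtype.ext (huniq _ (hpa t) _ (hps t) _ h _ (one_mem _) ?_)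
    rw [← hpe, mul_one]
  haveI : P.FiniteIndex := inferInstance
  set n := P.index with hn
  have hcop : (Nat.card ↥A).Coprime n := by
    obtain ⟨k, hk⟩ := (T.2.to_le hAT).exists_card_eq
    rw [hk]
    exact (Nat.coprime_two_left.2 hodd).pow_left k
  let e : ↥A ≃* ↥A := MulEquiv.ofBijective (powMonoidHom n) hcop.pow_left_bijective
  refine ⟨e.symm.toMonoidHom.comp (MonoidHom.transfer φ), fun k hk => ?_⟩
  have key : ∀ (j : ℕ) (g₀ : ↥K), g₀⁻¹ * k ^ j * g₀ ∈ P → g₀⁻¹ * k ^ j * g₀ = k ^ j := by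
    intro j g₀ _
    refine Subtype.ext ?_
    show (g₀ : G)⁻¹ * (k : G) ^ j * g₀ = (k : G) ^ j
    rw [mul_assoc, ← hcomm _ (pow_mem hk j) g₀, inv_mul_cancel_left]
  show e.symm (MonoidHom.transfer φ k) = _
  rw [MonoidHom.transfer_eq_pow φ k key, hφA _ (pow_mem hk _), MulEquiv.symm_apply_eq]
  exact Subtype.ext rfl

/-- In a dihedral group a central element squares to one. -/
lemma center_sq {m : ℕ} {z : DihedralGroup m} (h : ∀ y, z * y = y * z) : z * z = 1 := by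
  cases z with
  | r i =>
    have h1 := h (DihedralGroup.sr 0)
    simp only [DihedralGroup.r_mul_sr, DihedralGroup.sr_mul_r, DihedralGroup.sr.injEq, zero_sub,
      zero_add] at h1
    rw [DihedralGroup.r_mul_r, DihedralGroup.one_def]
    congr 1
    exact (eq_neg_iff_add_eq_zero).1 h1.symm
  | sr i => simp

/-- In a dihedral 2-group of order at least eight a central element is a square. -/
lemma center_isSquare {k : ℕ} (hk : 2 ≤ k) {z : DihedralGroup (2 ^ k)}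
    (h : ∀ y, z * y = y * z) : ∃ w, z = w * w := by
  cases z with
  | sr i =>
    exfalso
    have h1 := h (DihedralGroup.r 1)
    simp only [DihedralGroup.r_mul_sr, DihedralGroup.sr_mul_r, DihedralGroup.sr.injEq] at h1
    have h2 : ((2 : ℕ) : ZMod (2 ^ k)) = 0 := by
      rw [Nat.cast_two]; linear_combination h1
    have h3 := Nat.le_of_dvd (by norm_num) ((ZMod.natCast_eq_zero_iff _ _).1 h2)
    have h4 : 2 ^ 2 ≤ 2 ^ k := Nat.pow_le_pow_right (by norm_num) hk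
    omega
  | r i =>
    have h1 := h (DihedralGroup.sr 0)
    simp only [DihedralGroup.r_mul_sr, DihedralGroup.sr_mul_r, DihedralGroup.sr.injEq, zero_sub,
      zero_add] at h1
    haveI : NeZero (2 ^ k) := ⟨by positivity⟩
    have h2 : ((2 * i.val : ℕ) : ZMod (2 ^ k)) = 0 := by
      push_cast
      rw [ZMod.natCast_zmod_val, two_mul]
      exact (eq_neg_iff_add_eq_zero).1 h1.symm
    have h3 := (ZMod.natCast_eq_zero_iff _ _).1 h2
    obtain ⟨j, rfl⟩ : ∃ j, k = j + 1 := ⟨k - 1, by omega⟩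
    have h3' : 2 * 2 ^ j ∣ 2 * i.val := (dvd_of_eq (pow_succ' 2 j).symm).trans h3
    have h5 : 2 ∣ i.val :=
      (dvd_pow_self 2 (by omega : j ≠ 0)).trans ((Nat.mul_dvd_mul_iff_left (by norm_num)).1 h3')
    obtain ⟨c, hc⟩ := h5
    refine ⟨DihedralGroup.r (c : ZMod (2 ^ (j + 1))), ?_⟩
    rw [DihedralGroup.r_mul_r, ← ZMod.natCast_zmod_val i, hc]
    push_cast
    rw [two_mul]

/-- The complement of the central direct factor given by the transfer. -/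
lemma exists_factor (T : Sylow 2 G) (K L : Subgroup G) [K.Normal] (hKL : K ⊔ L = ⊤)
    (hLK : ∀ k ∈ K, ∀ l ∈ L, k * l = l * k) (A S₁ : Subgroup G) (hAK : A ≤ K)
    (hAT : A ≤ (T : Subgroup G)) (hAc : A ≤ center G) (hS : S₁ ≤ (T : Subgroup G) ⊓ K)
    (hd : S₁ ⊓ A = ⊥) (hdec : ∀ t ∈ (T : Subgroup G), t ∈ K → ∃ a ∈ A, ∃ s ∈ S₁, t = a * s) :
    ∃ K₀ : Subgroup G, K₀ ≤ K ∧ K₀.Normal ∧ A ⊓ K₀ = ⊥ ∧ (∀ k ∈ K, ∃ a ∈ A, a⁻¹ * k ∈ K₀) ∧
      ((∀ a ∈ A, a * a = 1) → ∀ w ∈ K, w * w ∈ K₀) ∧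
      Nonempty (↥((T : Subgroup G) ⊓ K₀) ≃* ↥S₁) := by
  obtain ⟨τ, hτ⟩ := exists_retraction T K A S₁ hAT hAc hd hdec
  set K₀ := τ.ker.map K.subtype with hK₀
  have hmem : ∀ k : ↥K, (k : G) ∈ K₀ ↔ τ k = 1 := fun k =>
    ⟨fun ⟨k', hk', he⟩ => Subtype.ext (he : (k' : G) = k) ▸ hk', fun h => ⟨k, h, rfl⟩⟩
  have hle : K₀ ≤ K := map_subtype_le _
  have hτA : ∀ a, ∀ ha : a ∈ A, τ ⟨a, hAK ha⟩ = ⟨a, ha⟩ := fun a ha => hτ _ ha
  have hproj : ∀ k : ↥K, ((τ k : ↥A) : G)⁻¹ * k ∈ K₀ := by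
    intro k
    have : τ ((⟨_, hAK (τ k).2⟩ : ↥K)⁻¹ * k) = 1 := by
      rw [map_mul, map_inv, hτA _ (τ k).2, inv_mul_cancel]
    exact (hmem _).2 this
  refine ⟨K₀, hle, ?_, ?_, fun k hk => ⟨_, (τ ⟨k, hk⟩).2, hproj ⟨k, hk⟩⟩, ?_, ?_⟩
  · rw [← normalizer_eq_top_iff, ← top_le_iff, ← hKL, sup_le_iff]
    constructor
    · intro g hg
      rw [mem_normalizer_iff]
      intro h
      constructor
      · rintro ⟨x, hx, rfl⟩
        exact ⟨_, MonoidHom.normal_ker τ |>.conj_mem x hx ⟨g, hg⟩, rfl⟩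
      · rintro ⟨x, hx, he⟩
        refine ⟨_, MonoidHom.normal_ker τ |>.conj_mem x hx ⟨g, hg⟩⁻¹, ?_⟩
        show g⁻¹ * (K.subtype x) * g⁻¹⁻¹ = h
        rw [he]; group
    · intro g hg
      rw [mem_normalizer_iff]
      intro h
      constructor
      · intro hh
        rwa [← hLK h (hle hh) g hg, mul_inv_cancel_right]
      · intro hh
        have := hLK _ (hle hh) g hg
        rw [inv_mul_cancel_right] at this
        rwa [← mul_left_cancel this] at hh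
  · refine (eq_bot_iff_forall _).2 fun a ha => ?_
    obtain ⟨ha, ha'⟩ := mem_inf.1 ha
    have := (hmem ⟨a, hAK ha⟩).1 ha'
    rw [hτA a ha] at this
    exact congrArg Subtype.val this
  · intro hel w hw
    refine (hmem (⟨w, hw⟩ * ⟨w, hw⟩)).2 ?_
    rw [map_mul]
    exact Subtype.ext (hel _ (τ ⟨w, hw⟩).2)
  · have hin : ∀ s : ↥S₁, ((τ ⟨s, (mem_inf.1 (hS s.2)).2⟩ : ↥A) : G)⁻¹ * s ∈
        (T : Subgroup G) ⊓ K₀ := fun s =>
      mem_inf.2 ⟨mul_mem (inv_mem (hAT (τ _).2)) (mem_inf.1 (hS s.2)).1, hproj _⟩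
    let f : ↥S₁ →* ↥((T : Subgroup G) ⊓ K₀) :=
      MonoidHom.mk' (fun s => ⟨_, hin s⟩) fun a b => Subtype.ext <| by
        set ka : ↥K := ⟨a, (mem_inf.1 (hS a.2)).2⟩
        set kb : ↥K := ⟨b, (mem_inf.1 (hS b.2)).2⟩
        show ((τ (ka * kb) : ↥A) : G)⁻¹ * ((a : G) * b) =
          ((τ ka : ↥A) : G)⁻¹ * a * (((τ kb : ↥A) : G)⁻¹ * b)
        have hc := mem_center_iff.1 (inv_mem (hAc (τ kb).2))
        rw [map_mul, Subgroup.coe_mul, mul_inv_rev, ← hc, ← mul_assoc, mul_assoc _ _ (a : G),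
          ← hc (a : G)]
        group
    refine ⟨(MulEquiv.ofBijective f ⟨?_, ?_⟩).symm⟩
    · rw [injective_iff_map_eq_one]
      intro s hs
      have h1 : ((τ ⟨s, (mem_inf.1 (hS s.2)).2⟩ : ↥A) : G)⁻¹ * s = 1 := congrArg Subtype.val hs
      have h2 : (s : G) ∈ S₁ ⊓ A := mem_inf.2 ⟨s.2, by
        rw [← inv_mul_eq_one.1 h1]; exact (τ _).2⟩
      rw [hd, mem_bot] at h2
      exact Subtype.ext h2
    · rintro ⟨r, hr⟩
      obtain ⟨hrT, hrK₀⟩ := mem_inf.1 hr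
      obtain ⟨a, ha, t, ht, rfl⟩ := hdec r hrT (hle hrK₀)
      refine ⟨⟨t, ht⟩, Subtype.ext ?_⟩
      have h1 : τ (⟨a, hAK ha⟩ * ⟨t, (mem_inf.1 (hS ht)).2⟩) = 1 := (hmem _).1 hrK₀
      rw [map_mul, hτA a ha, mul_eq_one_iff_eq_inv] at h1
      show ((τ ⟨t, _⟩ : ↥A) : G)⁻¹ * t = a * t
      rw [show a = ((⟨a, ha⟩ : ↥A) : G) from rfl, h1]
      simp

lemma mem_of_central (T : Sylow 2 G) (hO : Cfsg.oddCore G = ⊥) {w : G} (hw : w ∈ center G) :
    w ∈ (T : Subgroup G) := by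
  haveI : Fact (Nat.Prime 2) := ⟨Nat.prime_two⟩
  haveI : (zpowers w).Normal := ⟨fun n hn g => by
    obtain ⟨j, rfl⟩ := mem_zpowers_iff.1 hn
    rw [mem_center_iff.1 (zpow_mem hw j) g, mul_inv_cancel_right]
    exact hn⟩
  refine IsPGroup.le_sylow_of_normal ?_ T (mem_zpowers w)
  obtain ⟨k, m, hm, hk⟩ := Nat.exists_eq_two_pow_mul_odd (orderOf_pos w).ne'
  have hw' : w ^ 2 ^ k ∈ center G := pow_mem hw _
  haveI : (zpowers (w ^ 2 ^ k)).Normal := ⟨fun n hn g => by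
    obtain ⟨j, rfl⟩ := mem_zpowers_iff.1 hn
    rw [mem_center_iff.1 (zpow_mem hw' j) g, mul_inv_cancel_right]
    exact hn⟩
  have h1 : Odd (Nat.card ↥(zpowers (w ^ 2 ^ k))) := by
    rw [Nat.card_zpowers]
    exact hm.of_dvd_nat (orderOf_dvd_of_pow_eq_one (by rw [← pow_mul, ← hk, pow_orderOf_eq_one]))
  have h2 := InvChar.Core.le_oddCore inferInstance h1 (mem_zpowers (w ^ 2 ^ k))
  rw [hO, mem_bot] at h2
  obtain ⟨j, -, hj⟩ := (Nat.dvd_prime_pow Nat.prime_two).1 (orderOf_dvd_of_pow_eq_one h2)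
  exact IsPGroup.of_card (n := j) (by rw [Nat.card_zpowers, hj])

/-- Product fusion with a factor whose central elements are squares. -/
theorem split (hO : Cfsg.oddCore G = ⊥) (hO' : ∀ N : Subgroup G, N.Normal → Odd N.index → N = ⊤)
    (T : Sylow 2 G) (S₁ S₂ : Subgroup G)
    (hprod : Cfsg.IsInternalDirectProduct S₁ S₂ (T : Subgroup G))
    (h₁ : Cfsg.IsStronglyClosed S₁ (T : Subgroup G)) (h₂ : Cfsg.IsStronglyClosed S₂ (T : Subgroup G))
    (hel₂ : ∀ s ∈ S₂, (∀ t ∈ S₂, s * t = t * s) → s * s = 1)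
    (hsq : ∀ s ∈ S₁, (∀ t ∈ S₁, s * t = t * s) → ∃ w ∈ S₁, s = w * w) :
    ∃ G₁ G₂ : Subgroup G, G₁.Normal ∧ G₂.Normal ∧ Cfsg.IsInternalDirectProduct G₁ G₂ ⊤ ∧
      ∃ R₁ R₂ : Subgroup G, Cfsg.IsInternalDirectProduct R₁ R₂ (T : Subgroup G) ∧
        Nonempty (↥R₁ ≃* ↥S₁) ∧ Nonempty (↥R₂ ≃* ↥S₂) ∧ R₁ ≤ G₁ ∧ R₂ ≤ G₂ ∧
        Odd (R₁.relIndex G₁) ∧ Odd (R₂.relIndex G₂) := by
  haveI : Fact (Nat.Prime 2) := ⟨Nat.prime_two⟩
  obtain ⟨hS₁T, hS₂T, hc, hd, hT⟩ := hprod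
  set K := normalClosure (S₁ : Set G) with hK
  set L := normalClosure (S₂ : Set G) with hL
  have hcomm : ∀ k ∈ K, ∀ l ∈ L, k * l = l * k := fun k hk l hl =>
    commutatorElement_eq_one_iff_mul_comm.1 (mem_bot.1
      ((commutator_normalClosure_eq_bot hO T S₁ S₂ h₁ h₂ hc hd).le (commutator_mem_commutator hk hl)))
  have hS₁K : S₁ ≤ K := fun x hx => subset_normalClosure hx
  have hS₂L : S₂ ≤ L := fun x hx => subset_normalClosure hx
  have hKL : K ⊔ L = ⊤ := by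
    refine hO' _ inferInstance ((Nat.not_even_iff_odd.1 fun h => T.not_dvd_index h.two_dvd).of_dvd_nat
      (index_dvd_of_le ?_))
    rw [← hT]
    exact sup_le_sup hS₁K hS₂L
  have hKL' : L ⊔ K = ⊤ := by rw [sup_comm, hKL]
  have hcomm' : ∀ l ∈ L, ∀ k ∈ K, l * k = k * l := fun l hl k hk => (hcomm k hk l hl).symm
  have hcen : K ⊓ L ≤ center G := by
    intro w hw
    obtain ⟨hwK, hwL⟩ := mem_inf.1 hw
    rw [mem_center_iff]
    intro g
    obtain ⟨k, hk, l, hl, rfl⟩ := mem_sup_of_commute hcomm (hKL.ge (mem_top g))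
    rw [mul_assoc, hcomm' l hl w hwK, ← mul_assoc, hcomm k hk w hwL, mul_assoc]
  have hdecomp : ∀ t ∈ (T : Subgroup G), ∃ a ∈ S₁, ∃ b ∈ S₂, t = a * b := fun t ht =>
    mem_sup_of_commute hc (hT.ge ht)
  have huniq : ∀ a ∈ S₁, ∀ b ∈ S₂, ∀ a' ∈ S₁, ∀ b' ∈ S₂, a * b = a' * b' → a = a' ∧ b = b' := by
    intro a ha b hb a' ha' b' hb' h
    have h1 : a'⁻¹ * a = b' * b⁻¹ := by
      rw [eq_mul_inv_iff_mul_eq, mul_assoc, h]; group
    have h3 : a'⁻¹ * a ∈ S₁ ⊓ S₂ := mem_inf.2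
      ⟨mul_mem (inv_mem ha') ha, by rw [h1]; exact mul_mem hb' (inv_mem hb)⟩
    rw [hd, mem_bot, inv_mul_eq_one] at h3
    subst h3
    exact ⟨rfl, mul_left_cancel h⟩
  set A := S₂ ⊓ K with hA
  set B := S₁ ⊓ L with hB
  have hAc : A ≤ center G := fun a ha => hcen (mem_inf.2 ⟨(mem_inf.1 ha).2, hS₂L (mem_inf.1 ha).1⟩)
  have hBc : B ≤ center G := fun b hb => hcen (mem_inf.2 ⟨hS₁K (mem_inf.1 hb).1, (mem_inf.1 hb).2⟩)
  obtain ⟨K₀, hK₀K, hK₀n, hAK₀, hK₀dec, hK₀sq, ⟨eK⟩⟩ := exists_factor T K L hKL hcomm A S₁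
    inf_le_right (inf_le_left.trans hS₂T) hAc (le_inf hS₁T hS₁K)
    (le_bot_iff.1 (le_trans (inf_le_inf_left _ inf_le_left) hd.le))
    (fun t ht htK => by
      obtain ⟨a, ha, b, hb, rfl⟩ := hdecomp t ht
      exact ⟨b, mem_inf.2 ⟨hb, (Subgroup.mul_mem_cancel_left K (hS₁K ha)).1 htK⟩, a, ha,
        hc a ha b hb⟩)
  obtain ⟨L₀, hL₀L, hL₀n, hBL₀, hL₀dec, -, ⟨eL⟩⟩ := exists_factor T L K hKL' hcomm' B S₂
    inf_le_right (inf_le_left.trans hS₁T) hBc (le_inf hS₂T hS₂L)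
    (le_bot_iff.1 (le_trans (inf_le_inf_left _ inf_le_left) (by rw [inf_comm, hd])))
    (fun t ht htL => by
      obtain ⟨a, ha, b, hb, rfl⟩ := hdecomp t ht
      exact ⟨a, mem_inf.2 ⟨ha, (Subgroup.mul_mem_cancel_right L (hS₂L hb)).1 htL⟩, b, hb, rfl⟩)
  -- the central part of `S₁` lies in the first factor
  have hBK₀ : B ≤ K₀ := by
    intro b hb
    obtain ⟨w, hw, rfl⟩ := hsq b (mem_inf.1 hb).1 fun t _ => (mem_center_iff.1 (hBc hb) t).symm
    exact hK₀sq (fun a ha => hel₂ a (mem_inf.1 ha).1 fun t _ =>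
      (mem_center_iff.1 (hAc ha) t).symm) w (hS₁K hw)
  have hAB : A ≤ B ⊔ L₀ := by
    intro a ha
    obtain ⟨b, hb, hl⟩ := hL₀dec a (hS₂L (mem_inf.1 ha).1)
    have := mul_mem (mem_sup_left (T := L₀) hb) (mem_sup_right (S := B) hl)
    rwa [mul_inv_cancel_left] at this
  have hAKL : A ≤ K₀ ⊔ L₀ := hAB.trans (sup_le_sup_right hBK₀ _)
  have hmeet : K₀ ⊓ L₀ = ⊥ := by
    refine (eq_bot_iff_forall _).2 fun w hw => ?_
    obtain ⟨hwK₀, hwL₀⟩ := mem_inf.1 hw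
    have hwT := mem_of_central T hO (hcen (mem_inf.2 ⟨hK₀K hwK₀, hL₀L hwL₀⟩))
    obtain ⟨a, ha, b, hb, rfl⟩ := hdecomp w hwT
    have haB : a ∈ B := mem_inf.2 ⟨ha, (Subgroup.mul_mem_cancel_right L (hS₂L hb)).1 (hL₀L hwL₀)⟩
    have hbA : b ∈ A := mem_inf.2 ⟨hb, (Subgroup.mul_mem_cancel_left K (hS₁K ha)).1 (hK₀K hwK₀)⟩
    have hb1 : b = 1 := by
      have : b ∈ A ⊓ K₀ := mem_inf.2 ⟨hbA, (Subgroup.mul_mem_cancel_left K₀ (hBK₀ haB)).1 hwK₀⟩
      rwa [hAK₀, mem_bot] at this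
    rw [hb1, mul_one] at hwL₀ ⊢
    have : a ∈ B ⊓ L₀ := mem_inf.2 ⟨haB, hwL₀⟩
    rwa [hBL₀, mem_bot] at this
  refine ⟨K₀, L₀, hK₀n, hL₀n, ⟨le_top, le_top, fun a ha b hb => hcomm a (hK₀K ha) b (hL₀L hb),
    hmeet, ?_⟩, (T : Subgroup G) ⊓ K₀, (T : Subgroup G) ⊓ L₀, ⟨inf_le_left, inf_le_left,
    fun a ha b hb => hcomm a (hK₀K (mem_inf.1 ha).2) b (hL₀L (mem_inf.1 hb).2),
    le_bot_iff.1 ((inf_le_inf inf_le_right inf_le_right).trans hmeet.le), ?_⟩, ⟨eK⟩, ⟨eL⟩,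
    inf_le_right, inf_le_right, ?_, ?_⟩
  · rw [← top_le_iff]
    refine hKL.ge.trans (sup_le ?_ ?_)
    · intro k hk
      obtain ⟨a, ha, hk'⟩ := hK₀dec k hk
      have := mul_mem (hAKL ha) (mem_sup_left (T := L₀) hk')
      rwa [mul_inv_cancel_left] at this
    · intro l hl
      obtain ⟨b, hb, hl'⟩ := hL₀dec l hl
      have := mul_mem (mem_sup_left (T := L₀) (hBK₀ hb)) (mem_sup_right (S := K₀) hl')
      rwa [mul_inv_cancel_left] at this
  · refine le_antisymm (sup_le inf_le_left inf_le_left) fun t ht => ?_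
    set R := (T : Subgroup G) ⊓ K₀ ⊔ (T : Subgroup G) ⊓ L₀ with hR
    have hBR : B ≤ R := fun b hb => mem_sup_left (mem_inf.2 ⟨hS₁T (mem_inf.1 hb).1, hBK₀ hb⟩)
    have hLR : ∀ l ∈ (T : Subgroup G), l ∈ L → l ∈ R := by
      intro l hlT hl
      obtain ⟨b, hb, hl'⟩ := hL₀dec l hl
      have := mul_mem (hBR hb) (mem_sup_right (S := (T : Subgroup G) ⊓ K₀) (mem_inf.2
        ⟨mul_mem (inv_mem (hS₁T (mem_inf.1 hb).1)) hlT, hl'⟩))
      rwa [mul_inv_cancel_left] at this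
    obtain ⟨a, ha, b, hb, rfl⟩ := hdecomp t ht
    refine mul_mem ?_ (hLR b (hS₂T hb) (hS₂L hb))
    obtain ⟨c, hc', ha'⟩ := hK₀dec a (hS₁K ha)
    have := mul_mem (hLR c (hS₂T (mem_inf.1 hc').1) (hS₂L (mem_inf.1 hc').1))
      (mem_sup_left (T := (T : Subgroup G) ⊓ L₀) (mem_inf.2
        ⟨mul_mem (inv_mem (hS₂T (mem_inf.1 hc').1)) (hS₁T ha), ha'⟩))
    rwa [mul_inv_cancel_left] at this
  · haveI := hK₀n
    rw [inf_relIndex_right]
    exact odd_relIndex_normal T K₀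
  · haveI := hL₀n
    rw [inf_relIndex_right]
    exact odd_relIndex_normal T L₀

end Cfsg.Agent.ProductFusion
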