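import Cfsg.Agent.GStructB.ProductFusion.Basic
import Cfsg.Agent.Lib.Coprime.Commutator
import Cfsg.Agent.Lib.Components.Balance
import Cfsg.Agent.Lib.Cores.Basic

/-!
# The local facts

In a minimal situation the two members of a pair commute modulo the odd core of every
centralizer of a non-central element. Three elementary consequences say when an element of odd
order lies in such a core.
-/

set_option autoImplicit false
set_option linter.style.haveILetI false
set_option linter.unusedSectionVars false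

open Subgroup
open scoped commutatorElement

namespace Cfsg.Agent.ProductFusion

universe u

variable {G : Type u} [Group G] [Finite G]

/-- The inductive situation. -/
structure Ctx (π : Pair G) : Prop where
  hO : Cfsg.oddCore G = ⊥
  comm : ∀ H : Subgroup G, H ≠ ⊤ → ∀ x ∈ π.X, x ∈ H → ∀ y ∈ π.Y, y ∈ H →
    ⁅x, y⁆ ∈ (Cfsg.oddCore ↥H).map H.subtype
  hXc : ∀ x ∈ π.X, x ∉ center G
  hYc : ∀ y ∈ π.Y, y ∉ center G
  hZc : ∀ x ∈ π.X, ∀ y ∈ π.Y, Commute x y → x * y ∉ center G

lemma Ctx.swap {π : Pair G} (h : Ctx π) : Ctx π.swap where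
  hO := h.hO
  comm := fun H hH x hx hxH y hy hyH => by
    rw [← commutatorElement_inv]
    exact inv_mem (h.comm H hH y hy hyH x hx hxH)
  hXc := h.hYc
  hYc := h.hXc
  hZc := fun x hx y hy hc => by
    rw [hc.eq]; exact h.hZc y hy x hx hc.symm

local notation "O[" t "]" => Cfsg.centralizerPPrimeCore 2 t

section generic

variable {Q : Type u} [Group Q] [Finite Q]

/-- An odd subgroup normalized by a normal subgroup of a core-free group centralizes it and
meets it trivially. -/
lemma odd_normalized (hQ : Cfsg.oddCore Q = ⊥) {N W : Subgroup Q} [N.Normal]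
    (hW : Odd (Nat.card W)) (hNW : N ≤ normalizer (W : Set Q)) :
    W ⊓ N = ⊥ ∧ ∀ w ∈ W, ∀ n ∈ N, Commute w n := by
  have hbot : W ⊓ N = ⊥ := by
    haveI hn : ((W ⊓ N).subgroupOf N).Normal :=
      normal_subgroupOf_of_le_normalizer ((le_inf hNW le_normalizer).trans
        Subgroup.inf_normalizer_le_normalizer_inf)
    have hodd : Odd (Nat.card ↥((W ⊓ N).subgroupOf N)) := by
      rw [Nat.card_congr (subgroupOfEquivOfLe (inf_le_right : W ⊓ N ≤ N)).toEquiv]
      exact hW.of_dvd_nat (card_dvd_of_le inf_le_left)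
    have h1 := InvChar.Core.le_oddCore hn hodd
    rw [InvChar.Core.oddCore_eq_bot_of_isSubnormal hQ (Subgroup.Normal.isSubnormal inferInstance),
      le_bot_iff, subgroupOf_eq_bot] at h1
    exact le_bot_iff.1 (fun x hx => mem_bot.2 ((disjoint_def.1 h1) hx hx.2))
  refine ⟨hbot, fun w hw n hn => ?_⟩
  refine commutatorElement_eq_one_iff_commute.1 (mem_bot.1 ?_)
  rw [← hbot]
  refine ⟨?_, ?_⟩
  · rw [commutatorElement_def, mul_assoc, mul_assoc]
    refine W.mul_mem hw ?_
    rw [← mul_assoc]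
    exact (mem_normalizer_iff.1 (hNW hn) _).1 (W.inv_mem hw)
  · exact N.mul_mem (Subgroup.Normal.conj_mem inferInstance n hn w) (N.inv_mem hn)

end generic

variable (π : Pair G) (r : G)

/-- The map onto the centralizer of `r` modulo its odd core. -/
abbrev qmap : ↥(centralizer ({r} : Set G)) →*
    ↥(centralizer ({r} : Set G)) ⧸ Cfsg.oddCore ↥(centralizer ({r} : Set G)) :=
  QuotientGroup.mk' _

/-- The image of the subgroup generated by the first member in `C(r)` modulo its odd core. -/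
def kbar : Subgroup (↥(centralizer ({r} : Set G)) ⧸ Cfsg.oddCore ↥(centralizer ({r} : Set G))) :=
  closure (qmap r '' {x | (x : G) ∈ π.X})

instance kbar_normal : (kbar π r).Normal := by
  refine ⟨fun n hn g => ?_⟩
  induction hn using closure_induction with
  | mem x hx =>
    obtain ⟨c, hc, rfl⟩ := hx
    obtain ⟨d, rfl⟩ := QuotientGroup.mk'_surjective _ g
    refine subset_closure ⟨d * c * d⁻¹, ?_, by simp [qmap]⟩
    show ((d * c * d⁻¹ : ↥(centralizer ({r} : Set G))) : G) ∈ π.X
    push_cast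
    exact π.conjX _ hc
  | one => simp
  | mul x y _ _ ihx ihy =>
    rw [show g * (x * y) * g⁻¹ = g * x * g⁻¹ * (g * y * g⁻¹) by group]
    exact mul_mem ihx ihy
  | inv x _ ih =>
    rw [show g * x⁻¹ * g⁻¹ = (g * x * g⁻¹)⁻¹ by group]
    exact inv_mem ih

variable {π r}

lemma mem_core_iff {f : G} (hf : f ∈ centralizer ({r} : Set G)) :
    f ∈ O[r] ↔ qmap r ⟨f, hf⟩ = 1 := by
  rw [QuotientGroup.mk'_apply, QuotientGroup.eq_one_iff]
  constructor
  · rintro ⟨c, hc, rfl⟩
    exact hc
  · intro h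
    exact ⟨_, h, rfl⟩

lemma mem_cent_iff {f t : G} : f ∈ centralizer ({t} : Set G) ↔ Commute t f :=
  mem_centralizer_singleton_iff.trans ⟨fun h => h.symm, fun h => h.symm⟩

lemma core_commute {f t : G} (hf : f ∈ O[t]) : Commute t f :=
  mem_cent_iff.1 (Components.Balance.centralizerPPrimeCore_le_centralizer 2 t hf)

lemma core_odd (t : G) : Odd (Nat.card ↥O[t]) :=
  Nat.coprime_two_right.1 (Components.Balance.centralizerPPrimeCore_coprime 2 t)

lemma core_orderOf {f t : G} (hf : f ∈ O[t]) : Odd (orderOf f) :=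
  (core_odd t).of_dvd_nat (Subgroup.orderOf_dvd_natCard _ hf)

lemma eq_one_of_sq {f : G} (hf : Odd (orderOf f)) (h : f ^ 2 = 1) : f = 1 := by
  rw [← orderOf_eq_one_iff]
  exact Nat.eq_one_of_dvd_coprimes (Nat.coprime_two_right.2 hf) dvd_rfl (orderOf_dvd_of_pow_eq_one h)

lemma mem_of_sq_mem {H : Subgroup G} {f : G} (hf : Odd (orderOf f)) (h : f ^ 2 ∈ H) : f ∈ H := by
  obtain ⟨m, hm⟩ := exists_pow_eq_self_of_coprime (x := f) (n := 2) (Nat.coprime_two_left.2 hf)
  exact hm ▸ pow_mem h m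

section ctx

variable (h : Ctx π) (hr : r ∉ center G)

include hr in
lemma cent_ne_top : centralizer ({r} : Set G) ≠ ⊤ := fun e => hr (by
  rw [mem_center_iff]
  intro g
  exact (mem_cent_iff.1 (e ▸ mem_top g)).eq.symm)

include h hr in
lemma commutator_mem_core {x y : G} (hx : x ∈ π.X) (hxr : Commute r x) (hy : y ∈ π.Y)
    (hyr : Commute r y) : ⁅x, y⁆ ∈ O[r] :=
  h.comm _ (cent_ne_top hr) x hx (mem_cent_iff.2 hxr) y hy (mem_cent_iff.2 hyr)

include h hr in
lemma kbar_commute :
    ∀ k ∈ kbar π r, ∀ l ∈ kbar π.swap r, Commute k l := by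
  have h1 : kbar π r ≤ centralizer (kbar π.swap r : Set _) := by
    rw [kbar, closure_le]
    rintro _ ⟨x, hx, rfl⟩
    rw [SetLike.mem_coe, kbar, centralizer_closure, mem_centralizer_iff]
    rintro _ ⟨y, hy, rfl⟩
    refine (Commute.symm ?_).eq
    refine commutatorElement_eq_one_iff_commute.1 ?_
    rw [← map_commutatorElement]
    refine (mem_core_iff (⁅x, y⁆ : ↥(centralizer ({r} : Set G))).2).1 ?_
    have := commutator_mem_core h hr hx (mem_cent_iff.1 x.2) (show (y : G) ∈ π.Y from hy)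
      (mem_cent_iff.1 y.2)
    simpa [commutatorElement_def] using this
  exact fun k hk l hl => ((mem_centralizer_iff.1 (h1 hk)) l hl).symm

include h hr in
lemma kbar_inter_eq_one {k : ↥(centralizer ({r} : Set G)) ⧸ Cfsg.oddCore ↥(centralizer ({r} : Set G))}
    (h1 : k ∈ kbar π r) (h2 : k ∈ kbar π.swap r) (ho : Odd (orderOf k)) : k = 1 := by
  set N := kbar π r ⊓ kbar π.swap r with hN
  let S : Subgroup (↥(centralizer ({r} : Set G)) ⧸ Cfsg.oddCore ↥(centralizer ({r} : Set G))) :=
  { carrier := {s | s ∈ N ∧ Odd (orderOf s)}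
    one_mem' := ⟨one_mem N, by simp⟩
    mul_mem' := fun {a b} ha hb => ⟨mul_mem ha.1 hb.1,
      (ha.2.mul hb.2).of_dvd_nat (kbar_commute h hr a ha.1.1 b hb.1.2).orderOf_mul_dvd_mul_orderOf⟩
    inv_mem' := fun {a} ha => ⟨inv_mem ha.1, by rw [orderOf_inv]; exact ha.2⟩ }
  haveI hSn : S.Normal := ⟨fun s hs g => ⟨Subgroup.Normal.conj_mem inferInstance s hs.1 g,
    by rw [← MulAut.conj_apply, MulEquiv.orderOf_eq]; exact hs.2⟩⟩
  have hodd : Odd (Nat.card S) := by
    by_contra hev
    rw [Nat.not_odd_iff_even, even_iff_two_dvd] at hev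
    haveI : Fact (Nat.Prime 2) := ⟨Nat.prime_two⟩
    obtain ⟨s, hs⟩ := exists_prime_orderOf_dvd_card' 2 hev
    have := s.2.2
    rw [Subgroup.orderOf_coe, hs] at this
    exact absurd this (by decide)
  have : k ∈ S := ⟨⟨h1, h2⟩, ho⟩
  have h3 := InvChar.Core.le_oddCore hSn hodd this
  rwa [show Cfsg.oddCore (↥(centralizer ({r} : Set G)) ⧸ Cfsg.oddCore ↥(centralizer ({r} : Set G))) = ⊥
    from InvChar.Core.oddCore_quotient_oddCore_eq_bot, mem_bot] at h3

/-- An element inverted by a member of the first set lies in its image. -/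
lemma inverted_mem_kbar {f x : G} (hf : f ∈ centralizer ({r} : Set G)) (hfo : Odd (orderOf f))
    (hx : x ∈ π.X) (hxr : Commute r x) (hinv : x * f * x⁻¹ = f⁻¹) :
    qmap r ⟨f, hf⟩ ∈ kbar π r := by
  obtain ⟨m, hm⟩ := exists_pow_eq_self_of_coprime (x := f) (n := 2) (Nat.coprime_two_left.2 hfo)
  have hx' : x ∈ centralizer ({r} : Set G) := mem_cent_iff.2 hxr
  have h2 : f ^ 2 = f * x * f⁻¹ * x⁻¹ := by
    have : x * f⁻¹ * x⁻¹ = f := by
      rw [show x * f⁻¹ * x⁻¹ = (x * f * x⁻¹)⁻¹ by group, hinv, inv_inv]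
    rw [pow_two, mul_assoc f x, mul_assoc f, this]
  have hsq : (⟨f, hf⟩ : ↥(centralizer ({r} : Set G))) ^ 2 =
      (⟨f, hf⟩ : ↥(centralizer ({r} : Set G))) * ⟨x, hx'⟩ * (⟨f, hf⟩ : ↥(centralizer ({r} : Set G)))⁻¹ *
        (⟨x, hx'⟩ : ↥(centralizer ({r} : Set G)))⁻¹ :=
    Subtype.ext (by push_cast; exact h2)
  have hmem : qmap r ⟨f, hf⟩ ^ 2 ∈ kbar π r := by
    rw [← map_pow, hsq, map_mul, map_mul, map_mul, map_inv, map_inv]
    have hk : qmap r ⟨x, hx'⟩ ∈ kbar π r := Subgroup.subset_closure ⟨⟨x, hx'⟩, hx, rfl⟩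
    exact mul_mem ((kbar_normal π r).conj_mem _ hk _) (inv_mem hk)
  have : qmap r ⟨f, hf⟩ = (qmap r ⟨f, hf⟩ ^ 2) ^ m := by
    rw [← map_pow, ← map_pow]
    exact congrArg _ (Subtype.ext (by push_cast; exact hm.symm))
  rw [this]
  exact pow_mem hmem m

include h hr in
/-- (A) An element inverted by members of both sets lies in the core. -/
lemma factA {f x y : G} (hf : Commute r f) (hfo : Odd (orderOf f)) (hx : x ∈ π.X)
    (hxr : Commute r x) (hy : y ∈ π.Y) (hyr : Commute r y) (hxf : x * f * x⁻¹ = f⁻¹)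
    (hyf : y * f * y⁻¹ = f⁻¹) : f ∈ O[r] := by
  have hf' := mem_cent_iff.2 hf
  refine (mem_core_iff hf').2 (kbar_inter_eq_one h hr (inverted_mem_kbar hf' hfo hx hxr hxf)
    (inverted_mem_kbar (π := π.swap) hf' hfo hy hyr hyf) ?_)
  exact hfo.of_dvd_nat ((orderOf_map_dvd _ _).trans
    (orderOf_injective (Subgroup.subtype _) Subtype.coe_injective ⟨f, hf'⟩).symm.dvd)

/-- The image of `O(C(t)) ∩ C(r)`. -/
def wbar (t r : G) : Subgroup (↥(centralizer ({r} : Set G)) ⧸ Cfsg.oddCore ↥(centralizer ({r} : Set G))) :=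
  (O[t].subgroupOf (centralizer ({r} : Set G))).map (qmap r)

lemma wbar_odd (t : G) : Odd (Nat.card (wbar t r)) := by
  refine Odd.of_dvd_nat ?_ (card_map_dvd _ _)
  refine (core_odd t).of_dvd_nat ?_
  exact card_comap_dvd_of_injective _ _ (Subgroup.subtype_injective _)

lemma centralizer_image_le_normalizer {t : G} (ht : t * t = 1) (htr : Commute r t)
    {g : ↥(centralizer ({r} : Set G)) ⧸ Cfsg.oddCore ↥(centralizer ({r} : Set G))}
    (hg : Commute g (qmap r ⟨t, mem_cent_iff.2 htr⟩)) :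
    g ∈ normalizer (wbar t r : Set _) := by
  obtain ⟨c, rfl⟩ := QuotientGroup.mk'_surjective _ g
  set t' : ↥(centralizer ({r} : Set G)) := ⟨t, mem_cent_iff.2 htr⟩ with ht'
  have ht2 : t' * t' = 1 := Subtype.ext ht
  have hcard : (Nat.card (zpowers t')).Coprime (Nat.card (Cfsg.oddCore ↥(centralizer ({r} : Set G)))) := by
    rw [Nat.card_zpowers]
    refine Nat.Coprime.coprime_dvd_left (orderOf_dvd_of_pow_eq_one (by rw [pow_two]; exact ht2)) ?_
    exact Nat.coprime_two_left.2 InvChar.Core.odd_card_oddCore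
  obtain ⟨n, hn, hcn⟩ := Coprime.exists_fixed_in_coset (A := zpowers t') (k := c)
    le_normalizer_of_normal hcard (Or.inl inferInstance) (fun a ha => by
      have hk : a * c * a⁻¹ * c⁻¹ ∈ Cfsg.oddCore ↥(centralizer ({r} : Set G)) := by
        obtain ⟨i, rfl⟩ := mem_zpowers_iff.1 ha
        rw [← QuotientGroup.eq_one_iff]
        show qmap r (t' ^ i * c * (t' ^ i)⁻¹ * c⁻¹) = 1
        simp only [map_mul, map_inv, map_zpow]
        have e : qmap r t' ^ i * qmap r c = qmap r c * qmap r t' ^ i := ((hg.symm).zpow_left i).eq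
        rw [e]
        group
      have := Subgroup.Normal.conj_mem inferInstance _ hk c⁻¹
      simpa [mul_assoc] using this)
  have hcG : Commute t ((c * n : ↥(centralizer ({r} : Set G))) : G) :=
    congrArg Subtype.val (mem_centralizer_iff.1 hcn t' (mem_zpowers t'))
  have hnorm : c * n ∈ normalizer ((O[t].subgroupOf (centralizer ({r} : Set G))) : Set _) := by
    have := Components.Balance.le_normalizer_centralizerPPrimeCore 2 t (mem_cent_iff.2 hcG)
    refine mem_normalizer_iff.2 fun w => ?_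
    simpa [mem_subgroupOf] using mem_normalizer_iff.1 this (w : G)
  have heq : qmap r c = qmap r (c * n) := by
    rw [map_mul, (QuotientGroup.eq_one_iff n).2 hn |> fun e => (show qmap r n = 1 from e), mul_one]
  rw [heq, wbar]
  exact le_normalizer_map _ (mem_map_of_mem _ hnorm)

include h hr in
lemma wbar_spec {t : G} (ht : t ∈ π.Y) (htr : Commute r t) :
    wbar t r ⊓ kbar π r = ⊥ ∧ ∀ w ∈ wbar t r, ∀ k ∈ kbar π r, Commute w k := by
  refine odd_normalized InvChar.Core.oddCore_quotient_oddCore_eq_bot (wbar_odd t) fun k hk => ?_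
  exact centralizer_image_le_normalizer (π.swap.sq_eq_one_of_X ht) htr
    (kbar_commute h hr k hk _ (subset_closure ⟨⟨t, mem_cent_iff.2 htr⟩, ht, rfl⟩))

lemma mem_wbar {f t : G} (hf : f ∈ centralizer ({r} : Set G)) (hft : f ∈ O[t]) :
    qmap r ⟨f, hf⟩ ∈ wbar t r := mem_map_of_mem _ (mem_subgroupOf.2 hft)

include h hr in
/-- (B) An element of the first side in the core of a member of the second. -/
lemma factB {f x b : G} (hf : Commute r f) (hfb : f ∈ O[b]) (hx : x ∈ π.X) (hxr : Commute r x)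
    (hb : b ∈ π.Y) (hbr : Commute r b) (hxf : x * f * x⁻¹ = f⁻¹) : f ∈ O[r] := by
  have hf' := mem_cent_iff.2 hf
  refine (mem_core_iff hf').2 (mem_bot.1 ?_)
  rw [← (wbar_spec h hr hb hbr).1]
  exact ⟨mem_wbar hf' hfb, inverted_mem_kbar hf' (core_orderOf hfb) hx hxr hxf⟩

include h hr in
/-- (C) An element in the cores of one member of each set. -/
lemma factC {f a b : G} (hf : Commute r f) (hfa : f ∈ O[a]) (hfb : f ∈ O[b]) (ha : a ∈ π.X)
    (har : Commute r a) (hb : b ∈ π.Y) (hbr : Commute r b) : f ∈ O[r] := by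
  have hf' := mem_cent_iff.2 hf
  refine (mem_core_iff hf').2 (mem_bot.1 ?_)
  set N := centralizer ((kbar π r ⊔ kbar π.swap r : Subgroup _) : Set
    (↥(centralizer ({r} : Set G)) ⧸ Cfsg.oddCore ↥(centralizer ({r} : Set G)))) with hN
  haveI : N.Normal := normal_centralizer
  have hspec := odd_normalized (N := N) InvChar.Core.oddCore_quotient_oddCore_eq_bot
    (wbar_odd (r := r) b) fun n hn => by
      refine centralizer_image_le_normalizer (π.swap.sq_eq_one_of_X hb) hbr ?_
      exact (mem_centralizer_iff.1 hn _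
        (mem_sup_right (subset_closure ⟨⟨b, mem_cent_iff.2 hbr⟩, hb, rfl⟩))).symm
  rw [← hspec.1]
  refine ⟨mem_wbar hf' hfb, ?_⟩
  show qmap r ⟨f, hf'⟩ ∈ N
  rw [hN, sup_eq_closure, centralizer_closure, mem_centralizer_iff]
  rintro k (hk | hk)
  · exact ((wbar_spec h hr hb hbr).2 _ (mem_wbar hf' hfb) k hk).eq.symm
  · exact ((wbar_spec h.swap hr (show a ∈ π.swap.Y from ha) har).2 _ (mem_wbar hf' hfa) k hk).eq.symm

end ctx

end Cfsg.Agent.ProductFusion
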