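import Cfsg.Agent.GStructB.ProductFusion.Quad
import Cfsg.Agent.Lib.SolvableSignalizer.CoreSeparatedGen
import Cfsg.Agent.S0217
import Cfsg.Agent.S0205

/-!
# The signalizer functor of a quad

For a subgroup `S` of order 4 of a quad `E` put `G₂(S) = ⁅Δ(S), E⁆ Δ(E)`, where `Δ(S)` is the
intersection of `C(S)` with the cores `O(C(s))`. It is balanced; two applications of the solvable
signalizer functor theorem give an odd subgroup `W(E)`.
-/

set_option autoImplicit false
set_option linter.style.haveILetI false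
set_option linter.unusedSectionVars false

open Subgroup
open scoped commutatorElement

namespace Cfsg.Agent.ProductFusion

universe u

variable {G : Type u} [Group G] [Finite G]

local notation "O[" t "]" => Cfsg.centralizerPPrimeCore 2 t

/-- `C(S) ∩ ⋂ O(C(s))`. -/
def delta (S : Subgroup G) : Subgroup G :=
  centralizer (S : Set G) ⊓ Cfsg.signalizerDelta 2 S

lemma mem_delta {S : Subgroup G} {f : G} :
    f ∈ delta S ↔ (∀ s ∈ S, Commute s f) ∧ ∀ s ∈ S, s ≠ 1 → f ∈ O[s] := by
  simp only [delta, Cfsg.signalizerDelta, mem_inf, mem_iInf, mem_centralizer_iff, SetLike.mem_coe,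
    Subtype.forall, and_imp]
  exact Iff.rfl

lemma delta_anti {S T : Subgroup G} (h : S ≤ T) : delta T ≤ delta S := fun f hf => by
  rw [mem_delta] at hf ⊢
  exact ⟨fun s hs => hf.1 s (h hs), fun s hs h1 => hf.2 s (h hs) h1⟩

lemma delta_odd {S : Subgroup G} {s : G} (hs : s ∈ S) (hs1 : s ≠ 1) :
    Odd (Nat.card (delta S)) :=
  (core_odd s).of_dvd_nat (card_dvd_of_le fun _ hf => (mem_delta.1 hf).2 s hs hs1)

/-- The value on a subgroup of order 4. -/
def gTwo (E S : Subgroup G) : Subgroup G := ⁅delta S, E⁆ ⊔ delta E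

/-- The value on an element. -/
def theta (E : Subgroup G) (s : G) : Subgroup G :=
  ⨆ S : {S : Subgroup G // S ≤ E ∧ Nat.card S = 4 ∧ s ∈ S}, gTwo E S

/-- The odd subgroup of the quad. -/
def wsub (E : Subgroup G) : Subgroup G :=
  ⨆ s : {s : G // s ∈ E ∧ s ≠ 1}, theta E (s : G)

variable {π : Pair G} {P R : Subgroup G} (h : Ctx π) (q : Quad π P R)

local notation "E₁" => P ⊔ R

include q

lemma E_le_normalizer_delta {S : Subgroup G} (hS : S ≤ E₁) : E₁ ≤ normalizer (delta S : Set G) := by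
  refine le_normalizer_iff.2 fun e he f hf => ?_
  rw [mem_delta] at hf ⊢
  refine ⟨fun s hs => ?_, fun s hs h1 => ?_⟩
  · have hc := q.commE s (hS hs) e he
    exact (hc.mul_right (hf.1 s hs)).mul_right hc.inv_right
  · exact (mem_normalizer_iff.1 (Components.Balance.le_normalizer_centralizerPPrimeCore 2 s
      (mem_cent_iff.2 (q.commE s (hS hs) e he))) f).1 (hf.2 s hs h1)

lemma commutator_delta_le {S : Subgroup G} (hS : S ≤ E₁) : ⁅delta S, E₁⁆ ≤ delta S :=
  Coprime.commutator_le_of_le_normalizer (E_le_normalizer_delta q hS)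

lemma gTwo_le {S : Subgroup G} (hS : S ≤ E₁) : gTwo E₁ S ≤ delta S :=
  sup_le (commutator_delta_le q hS) (delta_anti hS)

lemma E_le_normalizer_gTwo {S : Subgroup G} : E₁ ≤ normalizer (gTwo E₁ S : Set G) := by
  refine le_normalizer_iff.2 fun g hg x hx => ?_
  have : gTwo E₁ S ≤ (gTwo E₁ S).comap (MulAut.conj g).toMonoidHom := by
    refine sup_le (fun y hy => ?_) (fun y hy => ?_)
    · exact mem_sup_left ((mem_normalizer_iff.1 (normalizer_commutator_ge_right _ _ hg) y).1 hy)
    · exact mem_sup_right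
        ((mem_normalizer_iff.1 (E_le_normalizer_delta q (le_refl _) hg) y).1 hy)
  exact this hx

lemma exists_mem {S : Subgroup G} (h4 : Nat.card S = 4) : ∃ s ∈ S, s ≠ 1 := by
  by_contra hno
  push Not at hno
  rw [(Subgroup.eq_bot_iff_forall S).2 hno, card_bot] at h4
  omega

lemma gTwo_odd {S : Subgroup G} (hS : S ≤ E₁) (h4 : Nat.card S = 4) :
    Odd (Nat.card (gTwo E₁ S)) := by
  obtain ⟨s, hs, hs1⟩ := exists_mem q h4
  exact (delta_odd hs hs1).of_dvd_nat (card_dvd_of_le (gTwo_le q hS))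

include h

/-- An inverted element of `Δ(S)` centralizing a hyperplane lies in all its cores. -/
lemma inverted_mem_cores {S H : Subgroup G} (hSH : S ≤ H) (h4 : Nat.card S = 4) (hH : H ≤ E₁)
    (h8 : Nat.card H = 8) {f e : G} (hfH : ∀ x ∈ H, Commute x f) (he : e ∈ E₁) (heH : e ∉ H)
    (hinv : e * f * e⁻¹ = f⁻¹) (hf : f ∈ delta S) {r : G} (hr : r ∈ H) (hr1 : r ≠ 1) :
    f ∈ O[r] := by
  have hnc := q.not_center h (hH hr) hr1
  have hall : ∀ e' ∈ E₁, e' ∉ H → e' * f * e'⁻¹ = f⁻¹ := by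
    intro e' he' he'H
    have hm := q.mul_mem_of_not_mem hH h8 he he' heH he'H
    have he'' : e' = e * (e * e') := by rw [← mul_assoc, q.sqE e he, one_mul]
    rw [he'', show e * (e * e') * f * (e * (e * e'))⁻¹ = e * ((e * e') * f * (e * e')⁻¹) * e⁻¹
      by group, (hfH _ hm).eq, mul_inv_cancel_right, hinv]
  obtain ⟨s, hs, hs1⟩ := exists_mem q h4
  have hfo : Odd (orderOf f) := core_orderOf ((mem_delta.1 hf).2 s hs hs1)
  have hrc : ∀ x ∈ E₁, Commute r x := fun x hx => q.commE r (hH hr) x hx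
  by_cases hP : P ≤ H
  · have hR : ¬ R ≤ H := fun hR => by
      have := card_dvd_of_le (sup_le hP hR)
      rw [q.cardE, h8] at this
      norm_num at this
    obtain ⟨b, hb, hbH⟩ := SetLike.not_le_iff_exists.1 hR
    obtain ⟨a, ha1, haS, haP⟩ := exists_ne_one_inf (E := H) hSH hP
      (fun x hx y hy => q.commE x (hH hx) y (hH hy)) (by rw [h8, h4, q.cardP]; omega)
    exact factB h.swap hnc (hfH r hr) ((mem_delta.1 hf).2 a haS ha1)
      (q.memR b hb fun e => hbH (e ▸ one_mem H)) (hrc b (mem_sup_right hb))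
      (q.memP a haP ha1) (hrc a (mem_sup_left haP)) (hall b (mem_sup_right hb) hbH)
  obtain ⟨a, ha, haH⟩ := SetLike.not_le_iff_exists.1 hP
  have haX := q.memP a ha fun e => haH (e ▸ one_mem H)
  by_cases hR : R ≤ H
  · obtain ⟨b, hb1, hbS, hbR⟩ := exists_ne_one_inf (E := H) hSH hR
      (fun x hx y hy => q.commE x (hH hx) y (hH hy)) (by rw [h8, h4, q.cardR]; omega)
    exact factB h hnc (hfH r hr) ((mem_delta.1 hf).2 b hbS hb1) haX (hrc a (mem_sup_left ha))
      (q.memR b hbR hb1) (hrc b (mem_sup_right hbR)) (hall a (mem_sup_left ha) haH)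
  obtain ⟨b, hb, hbH⟩ := SetLike.not_le_iff_exists.1 hR
  exact factA h hnc (hfH r hr) hfo haX (hrc a (mem_sup_left ha))
    (q.memR b hb fun e => hbH (e ▸ one_mem H)) (hrc b (mem_sup_right hb))
    (hall a (mem_sup_left ha) haH) (hall b (mem_sup_right hb) hbH)

/-- The commutators of elements centralizing a hyperplane inside `Δ(S)`. -/
lemma commutator_mem_cores {S H U : Subgroup G} (hSH : S ≤ H) (h4 : Nat.card S = 4) (hH : H ≤ E₁)
    (h8 : Nat.card H = 8) (hU : U ≤ delta S) (hUH : U ≤ centralizer (H : Set G)) :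
    ⁅U, E₁⁆ ≤ delta H := by
  rw [commutator_le]
  intro u hu e he
  by_cases heH : e ∈ H
  · rw [commutatorElement_eq_one_iff_commute.2 (mem_centralizer_iff.1 (hUH hu) e heH).symm]
    exact one_mem _
  have hf : ⁅u, e⁆ ∈ delta S := by
    rw [commutatorElement_def, mul_assoc, mul_assoc]
    refine mul_mem (hU hu) ?_
    rw [← mul_assoc]
    exact (mem_normalizer_iff.1 (E_le_normalizer_delta q (hSH.trans hH) he) _).1 (inv_mem (hU hu))
  have hfH : ∀ x ∈ H, Commute x ⁅u, e⁆ := by
    intro x hx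
    have h1 : Commute x u := mem_centralizer_iff.1 (hUH hu) x hx
    have h2 := q.commE x (hH hx) e he
    rw [commutatorElement_def]
    exact ((h1.mul_right h2).mul_right h1.inv_right).mul_right h2.inv_right
  refine mem_delta.2 ⟨hfH, fun r hr hr1 =>
    inverted_mem_cores h q hSH h4 hH h8 hfH he heH ?_ hf hr hr1⟩
  rw [commutatorElement_def, q.invE he]
  simp only [mul_inv_rev, inv_inv, q.invE he]
  simp only [mul_assoc, q.sqE e he, mul_one]

/-- `C(E) ∩ Δ(H) = Δ(E)` for a hyperplane `H`. -/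
lemma delta_inf_centralizer_le {H : Subgroup G} (hH : H ≤ E₁) (h8 : Nat.card H = 8) :
    delta H ⊓ centralizer ((E₁ : Subgroup G) : Set G) ≤ delta E₁ := by
  rintro f ⟨hf, hfE⟩
  have hfE' : ∀ e ∈ E₁, Commute e f := fun e he => mem_centralizer_iff.1 hfE e he
  obtain ⟨a, ha1, haH, haP⟩ := q.exists_mem_P hH h8
  obtain ⟨b, hb1, hbH, hbR⟩ := q.exists_mem_R hH h8
  refine mem_delta.2 ⟨hfE', fun r hr hr1 => ?_⟩
  exact factC h (q.not_center h hr hr1) (hfE' r hr) ((mem_delta.1 hf).2 a haH ha1)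
    ((mem_delta.1 hf).2 b hbH hb1) (q.memP a haP ha1) (q.commE r hr a (hH haH))
    (q.memR b hbR hb1) (q.commE r hr b (hH hbH))

/-- The fixed points of the quad on `⁅Δ(S), E⁆`. -/
lemma commutator_inf_centralizer_le {S : Subgroup G} (hS : S ≤ E₁) (h4 : Nat.card S = 4) :
    ⁅delta S, E₁⁆ ⊓ centralizer ((E₁ : Subgroup G) : Set G) ≤ delta E₁ := by
  set Y := ⁅delta S, E₁⁆ with hY
  obtain ⟨s, hs, hs1⟩ := exists_mem q h4
  have hE : IsPGroup 2 ↥E₁ := IsPGroup.of_card (n := 4) q.cardE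
  have hYle : Y ≤ delta S := commutator_delta_le q hS
  have hYodd : Odd (Nat.card Y) := (delta_odd hs hs1).of_dvd_nat (card_dvd_of_le hYle)
  have hYY : ⁅Y, E₁⁆ = Y := Coprime.commutator_commutator_eq (E_le_normalizer_delta q hS)
    (by rw [q.cardE]; exact Nat.Coprime.pow_left 4 (Nat.coprime_two_left.2 (delta_odd hs hs1)))
    (Or.inr (Cfsg.Agent.S0205.result (delta_odd hs hs1)))
  rw [Coprime.CommGen.generation E₁ E₁ Y hE q.elem.1 le_rfl hYodd (Cfsg.Agent.S0205.result hYodd)
    (normalizer_commutator_ge_right _ _) hYY]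
  refine iSup_le fun ⟨H, hH, hcyc⟩ => ?_
  dsimp only
  haveI hn : (H.subgroupOf E₁).Normal :=
    normal_subgroupOf_of_le_normalizer (q.le_normalizer hH le_rfl)
  haveI := @hcyc hn
  have hidx : (H.subgroupOf E₁).index ≤ 2 := by
    obtain ⟨g, hg⟩ := IsCyclic.exists_generator (α := ↥E₁ ⧸ H.subgroupOf E₁)
    rw [Subgroup.index_eq_card, ← orderOf_eq_card_of_forall_mem_zpowers hg]
    refine orderOf_le_of_pow_eq_one two_pos ?_
    induction g using QuotientGroup.induction_on with
    | _ x => rw [pow_two, ← QuotientGroup.mk_mul, show x * x = 1 from Subtype.ext (q.sqE x x.2)]; rfl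
  have hci := (H.subgroupOf E₁).card_mul_index
  rw [Nat.card_congr (subgroupOfEquivOfLe hH).toEquiv, q.cardE] at hci
  have hpos : (H.subgroupOf E₁).index ≠ 0 := Subgroup.index_ne_zero_of_finite
  have htriv : H = E₁ ∨ ¬ S ≤ H → ⁅Y ⊓ centralizer (H : Set G), E₁⁆ = ⊥ := by
    intro hcase
    have hle : Y ⊓ centralizer (H : Set G) ≤ centralizer ((E₁ : Subgroup G) : Set G) := by
      rintro y ⟨hy, hyH⟩
      have hyS : y ∈ centralizer (S : Set G) :=
        mem_centralizer_iff.2 fun s hs => ((mem_delta.1 (hYle hy)).1 s hs).eq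
      have hsup : H ⊔ S = E₁ := by
        rcases hcase with rfl | hSH
        · exact sup_eq_left.2 hS
        obtain ⟨t, htS, htH⟩ := SetLike.not_le_iff_exists.1 hSH
        refine Subgroup.eq_of_le_of_card_ge (sup_le hH hS) ?_
        have h1 := Nat.le_of_dvd Nat.card_pos (card_dvd_of_le
          (sup_le le_sup_left ((zpowers_le.2 htS).trans le_sup_right) : H ⊔ zpowers t ≤ H ⊔ S))
        rw [q.card_sup_zpowers hH (hS htS) htH] at h1
        rw [q.cardE]
        interval_cases hi : (H.subgroupOf E₁).index <;> omega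
      have h2 : (H ⊔ S : Subgroup G) ≤ centralizer ({y} : Set G) := sup_le
        (fun x hx => mem_cent_iff.2 (Commute.symm (mem_centralizer_iff.1 hyH x hx)))
        (fun x hx => mem_cent_iff.2 (Commute.symm (mem_centralizer_iff.1 hyS x hx)))
      exact mem_centralizer_iff.2 fun e he => (mem_cent_iff.1 (h2 (hsup ▸ he))).eq.symm
    exact commutator_eq_bot_iff_le_centralizer.2 hle
  by_cases hc : H = E₁ ∨ ¬ S ≤ H
  · rw [htriv hc]; simp
  rw [not_or, not_not] at hc
  have h8 : Nat.card H = 8 := by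
    have hne : Nat.card H ≠ 16 := fun e => hc.1 (Subgroup.eq_of_le_of_card_ge hH (by rw [e, q.cardE]))
    interval_cases hi : (H.subgroupOf E₁).index <;> omega
  intro f hf
  exact delta_inf_centralizer_le h q hH h8
    ⟨commutator_mem_cores h q hc.2 h4 hH h8 (inf_le_left.trans hYle) inf_le_right hf.2, hf.1.2⟩

lemma gTwo_inf_centralizer_le {S : Subgroup G} (hS : S ≤ E₁) (h4 : Nat.card S = 4) :
    gTwo E₁ S ⊓ centralizer ((E₁ : Subgroup G) : Set G) ≤ delta E₁ := by
  rintro f ⟨hf, hfE⟩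
  obtain ⟨c, hc, z, hz, rfl⟩ := (Coprime.mem_sup_of_le_normalizer
    ((delta_anti hS).trans (normalizer_commutator_ge_left _ _))).1 hf
  refine mul_mem (commutator_inf_centralizer_le h q hS h4 ⟨hc, ?_⟩) hz
  have hz' : z ∈ centralizer ((E₁ : Subgroup G) : Set G) :=
    mem_centralizer_iff.2 fun e he => ((mem_delta.1 hz).1 e he).eq
  have := Subgroup.mul_mem _ hfE (Subgroup.inv_mem _ hz')
  rwa [mul_inv_cancel_right] at this

/-- Balance between two subgroups of order 4 lying in a hyperplane. -/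
lemma gTwo_balance {S S' : Subgroup G} (hS : S ≤ E₁) (hS' : S' ≤ E₁) (h4 : Nat.card S = 4)
    (h4' : Nat.card S' = 4) (hle : Nat.card ↥(S ⊔ S') ≤ 8) :
    gTwo E₁ S ⊓ centralizer (S' : Set G) ≤ gTwo E₁ S' := by
  by_cases hSS : S' ≤ S
  · rw [Subgroup.eq_of_le_of_card_ge hSS (by rw [h4, h4'])]
    exact inf_le_left
  obtain ⟨t, htS', htS⟩ := SetLike.not_le_iff_exists.1 hSS
  set H := S ⊔ S' with hH
  have hHE : H ≤ E₁ := sup_le hS hS'
  have h8 : Nat.card H = 8 := by
    have h1 := Nat.le_of_dvd Nat.card_pos (card_dvd_of_le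
      (sup_le le_sup_left ((zpowers_le.2 htS').trans le_sup_right) : S ⊔ zpowers t ≤ H))
    rw [q.card_sup_zpowers hS (hS' htS') htS, h4] at h1
    omega
  set U := gTwo E₁ S ⊓ centralizer (H : Set G) with hU
  have hle' : gTwo E₁ S ⊓ centralizer (S' : Set G) ≤ U := by
    rintro f ⟨hf, hfS'⟩
    refine ⟨hf, ?_⟩
    have h2 : (H : Subgroup G) ≤ centralizer ({f} : Set G) := sup_le
      (fun x hx => mem_cent_iff.2 ((mem_delta.1 (gTwo_le q hS hf)).1 x hx).symm)
      (fun x hx => mem_cent_iff.2 (Commute.symm (mem_centralizer_iff.1 hfS' x hx)))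
    exact mem_centralizer_iff.2 fun e he => (mem_cent_iff.1 (h2 he)).eq.symm
  have hUn : E₁ ≤ normalizer (U : Set G) := by
    refine (le_inf (E_le_normalizer_gTwo q) ?_).trans Subgroup.inf_normalizer_le_normalizer_inf
    refine le_trans ?_ Subgroup.le_normalizer
    intro e he
    exact mem_centralizer_iff.2 fun x hx => (q.commE x (hHE hx) e he).eq
  have hUodd : Odd (Nat.card U) := (gTwo_odd q hS h4).of_dvd_nat (card_dvd_of_le inf_le_left)
  refine hle'.trans ?_
  rw [← Coprime.commutator_sup_inf_centralizer hUn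
    (by rw [q.cardE]; exact Nat.Coprime.pow_left 4 (Nat.coprime_two_left.2 hUodd))
    (Or.inr (Cfsg.Agent.S0205.result hUodd))]
  refine sup_le ?_ ?_
  · refine le_trans ?_ le_sup_left
    rw [commutator_le]
    intro u hu e he
    have hf : ⁅u, e⁆ ∈ delta H := commutator_mem_cores h q le_sup_left h4 hHE h8
      (inf_le_left.trans (gTwo_le q hS)) inf_le_right (commutator_mem_commutator hu he)
    have hfS : ⁅u, e⁆ ∈ delta S' := delta_anti le_sup_right hf
    refine mem_of_sq_mem ?_ ?_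
    · obtain ⟨s, hs, hs1⟩ := exists_mem q h4'
      exact core_orderOf ((mem_delta.1 hfS).2 s hs hs1)
    · have := commutator_mem_commutator hfS he
      rwa [show ⁅⁅u, e⁆, e⁆ = ⁅u, e⁆ ^ 2 by
        simp only [commutatorElement_def, mul_inv_rev, inv_inv, q.invE he, pow_two, mul_assoc]
        simp only [← mul_assoc]
        simp only [mul_assoc, q.sqE e he, mul_one]] at this
  · rintro f ⟨hf, hfE⟩
    exact mem_sup_right (gTwo_inf_centralizer_le h q hS h4 ⟨hf.1, hfE⟩)

end Cfsg.Agent.ProductFusion
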