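import Cfsg.Agent.GStructB.ProductFusion.Normalizer
import Mathlib.Logic.Relation

/-!
# The two members commute in a minimal situation

If the commuting graph on the involutions of the second member is disconnected, every involution of
the first fixes every component and hence centralizes it. If both graphs are connected, the normalizer
of `W` is the whole group, so `W = 1` and all the commutators vanish.
-/

set_option autoImplicit false
set_option linter.style.haveILetI false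
set_option linter.unusedSectionVars false

open Subgroup
open scoped commutatorElement

namespace Cfsg.Agent.ProductFusion

universe u

variable {G : Type u} [Group G] [Finite G]

local notation "O[" t "]" => Cfsg.centralizerPPrimeCore 2 t

/-- The commuting relation on the involutions of the second member. -/
def rel (π : Pair G) (y y' : G) : Prop := y ∈ π.Y ∧ y' ∈ π.Y ∧ Commute y y'

/-- The component of `y`. -/
def comp (π : Pair G) (y : G) : Set G := {y' | Relation.ReflTransGen (rel π) y y'}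

variable {π : Pair G}

lemma rel_symm {y y' : G} (h : rel π y y') : rel π y' y := ⟨h.2.1, h.1, h.2.2.symm⟩

lemma comp_symm {y y' : G} (h : y' ∈ comp π y) : y ∈ comp π y' := by
  induction h with
  | refl => exact Relation.ReflTransGen.refl
  | tail _ h ih => exact Relation.ReflTransGen.head (rel_symm h) ih

lemma mem_Y_of_comp {y y' : G} (hy : y ∈ π.Y) (h : y' ∈ comp π y) : y' ∈ π.Y := by
  induction h with
  | refl => exact hy
  | tail _ h _ => exact h.2.1

lemma conj_comp {g y y' : G} (h : y' ∈ comp π y) : g * y' * g⁻¹ ∈ comp π (g * y * g⁻¹) := by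
  induction h with
  | refl => exact Relation.ReflTransGen.refl
  | @tail b c _ h ih =>
    exact ih.tail ⟨π.swap.conjX g h.1, π.swap.conjX g h.2.1, h.2.2.map (MulAut.conj g).toMonoidHom⟩

/-- Two members in one 2-subgroup are in one component. -/
lemma comp_of_two_group {K : Subgroup G} (hK : IsPGroup 2 K) {y y' : G} (hy : y ∈ π.Y) (hyK : y ∈ K)
    (hy' : y' ∈ π.Y) (hy'K : y' ∈ K) : y' ∈ comp π y := by
  obtain ⟨z, hz, hzo, hzc⟩ := exists_central_involution (K := π.swap.secA K hK)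
    (hK.to_le (π.swap.secA_le _ _)) (x := y) ⟨hy.2, hyK⟩ (π.swap.ne_one_of_X hy)
  have hzY : z ∈ π.Y := ⟨hzo, hz.1⟩
  exact (Relation.ReflTransGen.single ⟨hy, hzY, (hzc y ⟨hy.2, hyK⟩).symm⟩).tail
    ⟨hzY, hy', hzc y' ⟨hy'.2, hy'K⟩⟩

/-- The stabilizer of a component. -/
def compStab (π : Pair G) (y₀ : G) : Subgroup G where
  carrier := {g | g * y₀ * g⁻¹ ∈ comp π y₀}
  one_mem' := by
    show 1 * y₀ * 1⁻¹ ∈ comp π y₀
    rw [one_mul, inv_one, mul_one]
    exact Relation.ReflTransGen.refl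
  mul_mem' := fun {a b} ha hb => by
    show a * b * y₀ * (a * b)⁻¹ ∈ comp π y₀
    rw [show a * b * y₀ * (a * b)⁻¹ = a * (b * y₀ * b⁻¹) * a⁻¹ by group]
    exact Relation.ReflTransGen.trans ha (conj_comp hb)
  inv_mem' := fun {a} ha => by
    show a⁻¹ * y₀ * a⁻¹⁻¹ ∈ comp π y₀
    have := conj_comp (g := a⁻¹) (comp_symm ha)
    rw [show a⁻¹ * (a * y₀ * a⁻¹) * a⁻¹⁻¹ = y₀ by group] at this
    exact comp_symm (comp_symm this)

lemma centralizer_le_compStab {y₀ y : G} (hy : y ∈ comp π y₀) :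
    centralizer ({y} : Set G) ≤ compStab π y₀ := by
  intro g hg
  have h1 := conj_comp (g := g) hy
  rw [(mem_cent_iff.1 hg).symm.eq, mul_inv_cancel_right] at h1
  exact Relation.ReflTransGen.trans hy (comp_symm h1)

lemma zpowers_two_pow_mul {c : G} {k m : ℕ} (hn : orderOf c = 2 ^ k * m) :
    (c ^ m) ^ 2 ^ k = 1 := by
  rw [← pow_mul, mul_comm, ← hn, pow_orderOf_eq_one]

variable (h : Ctx π)

include h

/-- Noncommuting `x` and `y` differ by an element of the core of the product of a commuting pair. -/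
lemma product_split {x y : G} (hx : x ∈ π.X) (hy : y ∈ π.Y) :
    ∃ y' k, y' ∈ π.Y ∧ Commute x y' ∧ y = k * y' * k⁻¹ ∧ k ∈ O[x * y'] ∧
      Commute (x * y') y ∧ ⁅x, y⁆ ∈ O[x * y'] := by
  haveI : Fact (Nat.Prime 2) := ⟨Nat.prime_two⟩
  set c := x * y with hc
  obtain ⟨k, m, hm, hn⟩ := Nat.exists_eq_two_pow_mul_odd (orderOf_pos c).ne'
  obtain ⟨i, hi⟩ := hm
  have hxx := π.sq_eq_one_of_X hx
  have hyy := π.swap.sq_eq_one_of_X hy
  have hxi := π.inv_eq_of_X hx
  have hyi : y⁻¹ = y := π.swap.inv_eq_of_X hy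
  have hxc : x * c * x⁻¹ = c⁻¹ := by
    rw [hc, mul_inv_rev, hxi, hyi, ← mul_assoc, hxx, one_mul]
  have hyc : y * c * y⁻¹ = c⁻¹ := by
    rw [hc, mul_inv_rev, hxi, hyi, mul_assoc, mul_assoc, hyy, mul_one]
  have hxcz : ∀ j : ℤ, x * c ^ j * x⁻¹ = c ^ (-j) := fun j => by
    rw [← conj_zpow, hxc, inv_zpow, ← zpow_neg]
  have hycz : ∀ j : ℤ, y * c ^ j * y⁻¹ = c ^ (-j) := fun j => by
    rw [← conj_zpow, hyc, inv_zpow, ← zpow_neg]
  set y' := c ^ (-(i : ℤ)) * y * c ^ (i : ℤ) with hy'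
  have hy'Y : y' ∈ π.Y := by
    rw [hy', zpow_neg]
    simpa using π.swap.conjX (c ^ (i : ℤ))⁻¹ hy
  set w := x * y' with hw
  have hycr : ∀ j : ℤ, y * c ^ j = c ^ (-j) * y := fun j => by rw [← hycz j, inv_mul_cancel_right]
  have hxcr : ∀ j : ℤ, x * c ^ j = c ^ (-j) * x := fun j => by rw [← hxcz j, inv_mul_cancel_right]
  have hwc : w = c ^ (m : ℤ) := by
    rw [hw, hy', mul_assoc, hycr, ← mul_assoc, mul_assoc x, ← mul_assoc (c ^ (-(i : ℤ))), ← zpow_add,
      ← mul_assoc x, hxcr, mul_assoc, ← hc,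
      ← zpow_add_one, hi]
    congr 1
    push_cast
    ring
  have hw2 : w ^ 2 ^ k = 1 := by rw [hwc, zpow_natCast]; exact zpowers_two_pow_mul hn
  have hxw : x * w * x⁻¹ = w⁻¹ := by rw [hwc, hxcz, zpow_neg]
  have hnorm : zpowers x ≤ normalizer (zpowers w : Set G) := by
    refine le_normalizer_iff.2 fun a ha b hb => ?_
    obtain ⟨j, rfl⟩ := mem_zpowers_iff.1 hb
    obtain ⟨l, rfl⟩ := mem_zpowers_iff.1 ha
    rcases Int.even_or_odd l with ⟨l', rfl⟩ | ⟨l', rfl⟩
    · rw [← two_mul, zpow_mul, zpow_two, hxx, one_zpow]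
      simpa using zpow_mem (mem_zpowers w) j
    · rw [zpow_add, zpow_mul, zpow_two, hxx, one_zpow, one_mul, zpow_one, ← conj_zpow, hxw, inv_zpow]
      exact inv_mem (zpow_mem (mem_zpowers w) j)
  have hP : IsPGroup 2 ↥(zpowers x ⊔ zpowers w) :=
    IsPGroup.to_sup_of_normal_right' (Pair.isPGroup_zpowers (k := 1) (by rw [pow_one, pow_two, hxx]))
      (Pair.isPGroup_zpowers hw2) hnorm
  have hy'mem : y' ∈ zpowers x ⊔ zpowers w := by
    rw [show y' = x * w by rw [hw, ← mul_assoc, hxx, one_mul]]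
    exact mul_mem_sup (mem_zpowers x) (mem_zpowers w)
  have hcxy' : Commute x y' :=
    π.comm _ hP x hx.2 (mem_sup_left (mem_zpowers x)) y' hy'Y.2 hy'mem
  have hw_sq : w * w = 1 := by
    rw [hw, mul_assoc, ← mul_assoc y', hcxy'.symm.eq, mul_assoc, π.swap.sq_eq_one_of_X hy'Y, mul_one, hxx]
  have hxw' : Commute x w := (Commute.refl x).mul_right hcxy'
  have hy'w : Commute w y' := hcxy'.mul_left (Commute.refl y')
  have hyw : Commute w y := by
    show w * y = y * w
    conv_rhs => rw [hwc, hycr, zpow_neg, ← hwc, inv_eq_of_mul_eq_one_right hw_sq]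
  have hnc : w ∉ center G := h.hZc x hx y' hy'Y hcxy'
  have ht : ⁅x, y⁆ ∈ O[w] := commutator_mem_core h hnc hx hxw'.symm hy hyw
  have htc : ⁅x, y⁆ = c ^ (2 : ℤ) := by
    rw [commutatorElement_def, hxi, hyi, zpow_two, hc]
    group
  have he : c ^ ((i : ℤ) * (2 * ((i : ℤ) + 1))) * c ^ (-((i : ℤ) * m)) = c ^ (i : ℤ) := by
    rw [← zpow_add, hi]
    congr 1
    push_cast
    ring
  have hwi : c ^ (-((i : ℤ) * m)) = w ^ (-(i : ℤ)) := by
    rw [hwc, ← zpow_mul]
    congr 1
    ring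
  refine ⟨y', ⁅x, y⁆ ^ ((i : ℤ) * ((i : ℤ) + 1)), hy'Y, hcxy', ?_, zpow_mem ht _, hyw, ht⟩
  have hfix : w ^ (-(i : ℤ)) * y' * (w ^ (-(i : ℤ)))⁻¹ = y' := by
    rw [(hy'w.zpow_left _).eq, mul_inv_cancel_right]
  rw [htc, ← zpow_mul, show (2 : ℤ) * ((i : ℤ) * ((i : ℤ) + 1)) = (i : ℤ) * (2 * ((i : ℤ) + 1)) by ring]
  conv_rhs => rw [← hfix, ← hwi]
  rw [show c ^ ((i : ℤ) * (2 * ((i : ℤ) + 1))) * (c ^ (-((i : ℤ) * m)) * y' * (c ^ (-((i : ℤ) * m)))⁻¹) *
      (c ^ ((i : ℤ) * (2 * ((i : ℤ) + 1))))⁻¹ =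
      (c ^ ((i : ℤ) * (2 * ((i : ℤ) + 1))) * c ^ (-((i : ℤ) * m))) * y' *
        (c ^ ((i : ℤ) * (2 * ((i : ℤ) + 1))) * c ^ (-((i : ℤ) * m)))⁻¹ by group, he, hy']
  group

/-- `O(C(xy))` fixes the component of `y`. -/
lemma core_le_compStab {x y : G} (hx : x ∈ π.X) (hy : y ∈ π.Y) (hc : Commute x y) :
    O[x * y] ≤ compStab π y := by
  obtain ⟨T, hxT, hyT⟩ := exists_sylow_mem_pair (π.sq_eq_one_of_X hx) (π.swap.sq_eq_one_of_X hy) hc
  obtain ⟨P, R, q, hxP, hyR, hPT, hRT⟩ := exists_quad h T hx hxT hy hyT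
  haveI : IsMulCommutative ↥R := ⟨⟨fun a b => Subtype.ext (q.commR a.2 b.2).eq⟩⟩
  have hncyc : ¬ IsCyclic R := by
    intro hcyc
    obtain ⟨g, hg⟩ := hcyc.exists_generator
    have h1 := orderOf_eq_card_of_forall_mem_zpowers hg
    have h2 : orderOf g ∣ 2 := orderOf_dvd_of_pow_eq_one
      (Subtype.ext (by push_cast; rw [pow_two, q.sqR g.2]))
    rw [h1, q.cardR] at h2
    norm_num at h2
  have hR : R ≤ normalizer (O[x * y] : Set G) := fun b hb =>
    Components.Balance.le_normalizer_centralizerPPrimeCore 2 _ (mem_cent_iff.2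
      (((q.comm x hxP b hb)).mul_left (q.commR hyR hb)))
  rw [← Coprime.fixedGen_eq hncyc hR
    (by rw [q.cardR]; exact Nat.Coprime.pow_left 2 (Nat.coprime_two_left.2 (core_odd _)))]
  refine iSup₂_le fun b hb => inf_le_right.trans (centralizer_le_compStab ?_)
  exact Relation.ReflTransGen.single ⟨hy, q.memR b hb.1 hb.2, q.commR hyR hb.1⟩

/-- A member of the first set fixes every component. -/
lemma X_le_compStab {x y₀ : G} (hx : x ∈ π.X) (hy₀ : y₀ ∈ π.Y) : x ∈ compStab π y₀ := by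
  obtain ⟨y', k, hy', hc, he, hk, -, -⟩ := product_split h hx hy₀
  have h1 : y₀ ∈ comp π y' := by
    have := core_le_compStab h hx hy' hc hk
    rw [he]
    exact this
  exact centralizer_le_compStab (comp_symm h1) (mem_cent_iff.2 hc.symm)

/-- A disconnected graph forces commutation. -/
theorem commute_of_disconnected {y₁ : G} {y₀ : G} (hy₀ : y₀ ∈ π.Y) (hy₁ : y₁ ∈ π.Y)
    (hne : y₁ ∉ comp π y₀) {x : G} (hx : x ∈ π.X) : Commute x y₀ := by
  haveI : Fact (Nat.Prime 2) := ⟨Nat.prime_two⟩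
  set H := compStab π y₀ with hH
  have hHtop : H ≠ ⊤ := by
    intro htop
    obtain ⟨T₀, hT₀⟩ := (π.swap.isPGroup_of_A hy₀.2).exists_le_sylow
    obtain ⟨T₁, hT₁⟩ := (π.swap.isPGroup_of_A hy₁.2).exists_le_sylow
    obtain ⟨g, hg⟩ := MulAction.exists_smul_eq G T₁ T₀
    have hgy : g * y₁ * g⁻¹ ∈ (T₀ : Subgroup G) := by
      rw [← hg, Sylow.coe_subgroup_smul]
      exact ⟨y₁, hT₁ (mem_zpowers y₁), rfl⟩
    have hq := comp_of_two_group T₀.2 hy₀ (hT₀ (mem_zpowers y₀)) (π.swap.conjX g hy₁) hgy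
    have hginv : g⁻¹ ∈ H := htop ▸ mem_top _
    have := conj_comp (g := g⁻¹) hq
    rw [show g⁻¹ * (g * y₁ * g⁻¹) * g⁻¹⁻¹ = y₁ by group] at this
    exact hne (Relation.ReflTransGen.trans hginv this)
  set N := closure π.X with hN
  haveI : N.Normal := by
    refine ⟨fun n hn g => ?_⟩
    have : N ≤ N.comap (MulAut.conj g).toMonoidHom := by
      rw [hN, closure_le]
      exact fun z hz => Subgroup.subset_closure (π.conjX g hz)
    exact this hn
  have hNH : N ≤ H := by
    rw [hN, closure_le]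
    exact fun z hz => X_le_compStab h hz hy₀
  have hxH : x ∈ H := hNH (Subgroup.subset_closure hx)
  have hyH : y₀ ∈ H := centralizer_le_compStab (y := y₀) Relation.ReflTransGen.refl (mem_cent_iff.2 (Commute.refl _))
  have h1 := h.comm H hHtop x hx hxH y₀ hy₀ hyH
  set W := (Cfsg.oddCore ↥H).map H.subtype with hW
  have hWodd : Odd (Nat.card W) := by
    rw [hW, card_map_of_injective H.subtype_injective]
    exact InvChar.Core.odd_card_oddCore
  have hNW : N ≤ normalizer (W : Set G) := by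
    refine hNH.trans (le_normalizer_iff.2 ?_)
    rintro g hg _ ⟨w, hw, rfl⟩
    exact ⟨⟨g, hg⟩ * w * ⟨g, hg⟩⁻¹, Subgroup.Normal.conj_mem inferInstance w hw _, by simp⟩
  refine commutatorElement_eq_one_iff_commute.1 (mem_bot.1 ?_)
  rw [← (odd_normalized h.hO hWodd hNW).1]
  refine ⟨h1, ?_⟩
  have hxN : x ∈ N := Subgroup.subset_closure hx
  rw [commutatorElement_def, mul_assoc, mul_assoc]
  refine N.mul_mem hxN ?_
  rw [← mul_assoc]
  exact Subgroup.Normal.conj_mem inferInstance _ (N.inv_mem hxN) y₀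

/-- Involutions commuting inside a connected graph lie in the normalizer of `W`. -/
lemma X_le_stab (T : Sylow 2 G) {P R : Subgroup G} (q : Quad π P R) (hP : P ≤ (T : Subgroup G))
    (hR : R ≤ (T : Subgroup G)) (hconn : ∀ x ∈ π.X, ∀ x' ∈ π.X, x' ∈ comp π.swap x) :
    π.X ⊆ (normalizer (wsub (P ⊔ R) : Set G) : Subgroup G) := by
  haveI : Fact (Nat.Prime 2) := ⟨Nat.prime_two⟩
  set M := normalizer (wsub (P ⊔ R) : Set G) with hM
  have hTM : (T : Subgroup G) ≤ M := fun g hg => by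
    refine mem_stab h T q hP hR ?_ ?_
    all_goals
      rintro _ ⟨a, ha, rfl⟩
      exact mul_mem (mul_mem hg (by first | exact hP ha | exact hR ha)) (inv_mem hg)
  obtain ⟨x₀, hx₀, hx₀1⟩ := exists_mem q q.cardP
  have hx₀X := q.memP x₀ hx₀ hx₀1
  have hstep : ∀ x ∈ π.X, x ∈ M → ∀ x' ∈ π.X, Commute x x' → x' ∈ M := by
    intro x hx hxM x' hx' hc
    obtain ⟨T', hT'⟩ := ((π.isPGroup_of_A hx.2).of_equiv
      (Subgroup.subgroupOfEquivOfLe (zpowers_le.2 hxM)).symm).exists_le_sylow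
    obtain ⟨m, hm⟩ := MulAction.exists_smul_eq M T' (T.subtype hTM)
    have hmx : (m : G) * x * (m : G)⁻¹ ∈ (T : Subgroup G) := by
      have : m * ⟨x, hxM⟩ * m⁻¹ ∈ (T.subtype hTM : Subgroup M) := by
        rw [← hm, Sylow.coe_subgroup_smul]
        exact ⟨⟨x, hxM⟩, hT' (mem_subgroupOf.2 (mem_zpowers x)), rfl⟩
      exact this
    obtain ⟨Q, hxQ, hQT, hQ4, hQX⟩ := exists_four h T (π.conjX (m : G) hx) hmx
    have q' : Quad π Q R := ⟨hQ4, q.cardR, hQX, q.memR, fun a ha c hc' => by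
      by_cases ha1 : a = 1
      · rw [ha1]; exact Commute.one_left c
      by_cases hc1 : c = 1
      · rw [hc1]; exact Commute.one_right a
      exact π.comm T T.2 a (hQX a ha ha1).2 (hQT ha) c (q.memR c hc' hc1).2 (hR hc')⟩
    have hW := wsub_eq_in_sylow h T q q' hP hR hQT hR
    have h1 : (m : G) * x' * (m : G)⁻¹ ∈ normalizer (wsub (P ⊔ R) : Set G) := by
      rw [hW]
      exact partner_mem h q' hxQ (π.ne_one_of_X (π.conjX (m : G) hx)) (π.conjX (m : G) hx')
        (hc.map (MulAut.conj (m : G)).toMonoidHom)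
    have := mul_mem (mul_mem (inv_mem m.2) h1) m.2
    simpa [mul_assoc] using this
  intro x hx
  have hr := hconn x₀ hx₀X x hx
  show x ∈ M
  induction hr with
  | refl => exact hTM (hP hx₀)
  | tail _ h2 ih => exact hstep _ h2.1 (ih h2.1) _ h2.2.1 h2.2.2

/-- In the connected case `W` is trivial. -/
theorem wsub_eq_bot (T : Sylow 2 G) {P R : Subgroup G} (q : Quad π P R) (hP : P ≤ (T : Subgroup G))
    (hR : R ≤ (T : Subgroup G)) (hX : ∀ x ∈ π.X, ∀ x' ∈ π.X, x' ∈ comp π.swap x)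
    (hY : ∀ y ∈ π.Y, ∀ y' ∈ π.Y, y' ∈ comp π y) : wsub (P ⊔ R) = ⊥ := by
  haveI : Fact (Nat.Prime 2) := ⟨Nat.prime_two⟩
  set M := normalizer (wsub (P ⊔ R) : Set G) with hM
  have hXM : π.X ⊆ M := X_le_stab h T q hP hR hX
  have hYM : π.Y ⊆ M := by
    rw [hM, sup_comm]
    exact X_le_stab h.swap T q.swap hR hP hY
  set N := closure (π.X ∪ π.Y) with hN
  haveI : N.Normal := by
    refine ⟨fun n hn g => ?_⟩
    have : N ≤ N.comap (MulAut.conj g).toMonoidHom := by
      rw [hN, closure_le]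
      rintro z (hz | hz)
      · exact Subgroup.subset_closure (Or.inl (π.conjX g hz))
      · exact Subgroup.subset_closure (Or.inr (π.swap.conjX g hz))
    exact this hn
  have hNM : N ≤ M := by
    rw [hN, closure_le]
    exact Set.union_subset hXM hYM
  have hMtop : M = ⊤ := by
    refine eq_top_iff.2 fun g _ => ?_
    have hTM : (T : Subgroup G) ≤ M := fun g hg => by
      refine mem_stab h T q hP hR ?_ ?_
      all_goals
        rintro _ ⟨a, ha, rfl⟩
        exact mul_mem (mul_mem hg (by first | exact hP ha | exact hR ha)) (inv_mem hg)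
    have hEN : P ⊔ R ≤ N := by
      refine sup_le (fun a ha => ?_) (fun b hb => ?_)
      · by_cases ha1 : a = 1
        · rw [ha1]; exact one_mem _
        · exact Subgroup.subset_closure (Or.inl (q.memP a ha ha1))
      · by_cases hb1 : b = 1
        · rw [hb1]; exact one_mem _
        · exact Subgroup.subset_closure (Or.inr (q.memR b hb hb1))
    set E' := (P ⊔ R).map (MulAut.conj g).toMonoidHom with hE'
    have hE'p : IsPGroup 2 E' := (T.2.to_le (sup_le hP hR)).map _
    have hE'M : E' ≤ M := by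
      rintro _ ⟨e, he, rfl⟩
      exact hNM (Subgroup.Normal.conj_mem inferInstance e (hEN he) g)
    obtain ⟨k, hk, hkle⟩ := Transfer.Fusion.exists_conj_le_of_isPGroup T hTM hE'p hE'M
    have hkg : k * g ∈ M := by
      refine mem_stab h T q hP hR ?_ ?_ <;> rw [Transfer.Fusion.map_conj_mul]
      · exact (Subgroup.map_mono (Subgroup.map_mono le_sup_left)).trans hkle
      · exact (Subgroup.map_mono (Subgroup.map_mono le_sup_right)).trans hkle
    simpa using mul_mem (inv_mem hk) hkg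
  haveI hWn : (wsub (P ⊔ R)).Normal := normalizer_eq_top_iff.1 hMtop
  exact le_bot_iff.1 (h.hO ▸ InvChar.Core.le_oddCore hWn (wsub_spec h q).1)

end Cfsg.Agent.ProductFusion
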