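import Cfsg.Agent.GStructB.ProductFusion.Graph
import Cfsg.Agent.Lib.ZStar.CentralWeaklyClosed

/-!
# The involutions of the two members commute modulo the odd core
-/

set_option autoImplicit false
set_option linter.style.haveILetI false
set_option linter.unusedSectionVars false

open Subgroup
open scoped commutatorElement

namespace Cfsg.Agent.ProductFusion

universe u

variable {G : Type u} [Group G] [Finite G]

local notation "O[" t "]" => Cfsg.centralizerPPrimeCore 2 t

/-- In a minimal situation the involutions commute. -/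
theorem Ctx.commute {π : Pair G} (h : Ctx π) {x y : G} (hx : x ∈ π.X) (hy : y ∈ π.Y) :
    Commute x y := by
  by_cases hY : ∀ z ∈ π.Y, ∀ z' ∈ π.Y, z' ∈ comp π z
  swap
  · have hex : ∃ z ∈ π.Y, z ∉ comp π y := by
      by_contra hno
      push Not at hno
      exact hY fun z hz z' hz' => Relation.ReflTransGen.trans (comp_symm (hno z hz)) (hno z' hz')
    obtain ⟨z, hz, hne⟩ := hex
    exact commute_of_disconnected h hy hz hne hx
  by_cases hX : ∀ z ∈ π.X, ∀ z' ∈ π.X, z' ∈ comp π.swap z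
  swap
  · have hex : ∃ z ∈ π.X, z ∉ comp π.swap x := by
      by_contra hno
      push Not at hno
      exact hX fun z hz z' hz' => Relation.ReflTransGen.trans (comp_symm (hno z hz)) (hno z' hz')
    obtain ⟨z, hz, hne⟩ := hex
    exact (commute_of_disconnected h.swap (y₀ := x) hx hz hne hy).symm
  obtain ⟨y', -, hy', hc, -, -, hzy, ht⟩ := product_split h hx hy
  set z := x * y' with hz
  obtain ⟨T, hxT, hyT⟩ := exists_sylow_mem_pair (π.sq_eq_one_of_X hx) (π.swap.sq_eq_one_of_X hy') hc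
  obtain ⟨P, R, q, hxP, hyR, hPT, hRT⟩ := exists_quad h T hx hxT hy' hyT
  have hW := wsub_eq_bot h T q hPT hRT hX hY
  have hxE : x ∈ P ⊔ R := mem_sup_left hxP
  have hyE : y' ∈ P ⊔ R := mem_sup_right hyR
  have hzE : z ∈ P ⊔ R := mul_mem hxE hyE
  have hx1 := π.ne_one_of_X hx
  have hy1 : y' ≠ 1 := π.swap.ne_one_of_X hy'
  have hz1 : z ≠ 1 := fun e => π.not_mem_Y hx (by
    rw [eq_inv_of_mul_eq_one_left e, π.swap.inv_eq_of_X hy']
    exact hy')
  obtain ⟨a', ha', ha'1, ha'x, -⟩ := exists_other q hxP hx1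
  obtain ⟨b', hb', hb'1, hb'y, -⟩ := exists_other q.swap hyR hy1
  have ha'E : a' ∈ P ⊔ R := mem_sup_left ha'
  have hb'E : b' ∈ P ⊔ R := mem_sup_right hb'
  have hne : b' ≠ a' := fun e => π.not_mem_Y (q.memP a' ha' ha'1) (e ▸ q.memR b' hb' hb'1)
  have hVE := two_le q ha'E hb'E
  have hzV : z ∉ two a' b' := by
    intro hzV
    obtain ⟨i, hi, j, hj, he⟩ := (Coprime.mem_sup_of_le_normalizer
      (q.le_normalizer (zpowers_le.2 ha'E) (zpowers_le.2 hb'E))).1 hzV
    have hiP : i ∈ P := zpowers_le.2 ha' hi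
    have hjR : j ∈ R := zpowers_le.2 hb' hj
    have heq : x⁻¹ * i = y' * j⁻¹ := by
      calc x⁻¹ * i = x⁻¹ * (i * j) * j⁻¹ := by group
        _ = y' * j⁻¹ := by rw [he, hz]; group
    have h1 : x⁻¹ * i = 1 := by
      by_contra hne1
      exact π.not_mem_Y (q.memP _ (mul_mem (inv_mem hxP) hiP) hne1)
        (q.memR _ (heq ▸ mul_mem hyR (inv_mem hjR)) hne1)
    obtain ⟨l, hl⟩ := mem_zpowers_iff.1 hi
    have hxi : x = i := by rwa [inv_mul_eq_one] at h1
    rcases Int.even_or_odd l with ⟨l', rfl⟩ | ⟨l', rfl⟩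
    · rw [← two_mul, zpow_mul, zpow_two, q.sqP ha', one_zpow] at hl
      exact hx1 (by rw [hxi, ← hl])
    · rw [zpow_add, zpow_mul, zpow_two, q.sqP ha', one_zpow, one_mul, zpow_one] at hl
      exact ha'x (hl.trans hxi.symm)
  set U := O[z] with hU
  have hUodd : Odd (Nat.card U) := core_odd z
  have hUn : P ⊔ R ≤ normalizer (U : Set G) := fun e he =>
    Components.Balance.le_normalizer_centralizerPPrimeCore 2 z (mem_cent_iff.2 (q.commE z hzE e he))
  haveI : IsMulCommutative ↥(two a' b') :=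
    ⟨⟨fun a b => Subtype.ext (q.commE a (hVE a.2) b (hVE b.2)).eq⟩⟩
  have h4 := q.card_pair ha'E hb'E ha'1 hb'1 hne
  have hncyc : ¬ IsCyclic (two a' b') := by
    intro hcyc
    obtain ⟨g, hg⟩ := hcyc.exists_generator
    have h1 := orderOf_eq_card_of_forall_mem_zpowers hg
    have h2 : orderOf g ∣ 2 := orderOf_dvd_of_pow_eq_one
      (Subtype.ext (by push_cast; rw [pow_two, q.sqE g (hVE g.2)]))
    rw [h1, show Nat.card ↥(two a' b') = 4 from h4] at h2
    norm_num at h2
  have hcen : U ≤ centralizer ({x} : Set G) := by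
    rw [← Coprime.fixedGen_eq hncyc (hVE.trans hUn)
      (by rw [show Nat.card ↥(two a' b') = 4 from h4]
          exact Nat.Coprime.pow_left 2 (Nat.coprime_two_left.2 hUodd))]
    refine iSup₂_le fun v hv => ?_
    rintro u ⟨hu, huv⟩
    refine mem_cent_iff.2 (Commute.symm ?_)
    refine commutatorElement_eq_one_iff_commute.1 ?_
    have hvE : v ∈ P ⊔ R := hVE hv.1
    have hvz : v ≠ z := fun e => hzV (e ▸ hv.1)
    have hfU : ⁅u, x⁆ ∈ U := Coprime.commutator_le_of_le_normalizer (A := zpowers x)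
      ((zpowers_le.2 hxE).trans hUn) (commutator_mem_commutator hu (mem_zpowers x))
    have hfo : Odd (orderOf ⁅u, x⁆) := core_orderOf hfU
    have hfz : Commute z ⁅u, x⁆ := core_commute hfU
    have hvu : Commute v u := mem_cent_iff.1 huv
    have hvx : Commute v x := q.commE v hvE x hxE
    have hfv : Commute v ⁅u, x⁆ := by
      rw [commutatorElement_def]
      exact ((hvu.mul_right hvx).mul_right hvu.inv_right).mul_right hvx.inv_right
    have hxf : x * ⁅u, x⁆ * x⁻¹ = ⁅u, x⁆⁻¹ := by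
      rw [commutatorElement_def]
      simp only [mul_inv_rev, inv_inv, π.inv_eq_of_X hx]
      simp only [mul_assoc, π.sq_eq_one_of_X hx, mul_one]
    have hyf : y' * ⁅u, x⁆ * y'⁻¹ = ⁅u, x⁆⁻¹ := by
      have e : y' = x * z := by rw [hz, ← mul_assoc, π.sq_eq_one_of_X hx, one_mul]
      rw [e, show x * z * ⁅u, x⁆ * (x * z)⁻¹ = x * (z * ⁅u, x⁆ * z⁻¹) * x⁻¹ by group, hfz.eq,
        mul_inv_cancel_right, hxf]
    have hmem : two z v ≤ centralizer ({⁅u, x⁆} : Set G) := sup_le
      (zpowers_le.2 (mem_cent_iff.2 hfz.symm)) (zpowers_le.2 (mem_cent_iff.2 hfv.symm))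
    have hdel : ⁅u, x⁆ ∈ delta (two z v) := mem_delta.2
      ⟨fun s hs => (mem_cent_iff.1 (hmem hs)).symm, fun s hs hs1 => by
        have hsE : s ∈ P ⊔ R := two_le q hzE hvE hs
        exact factA h (q.not_center h hsE hs1) (mem_cent_iff.1 (hmem hs)).symm hfo hx
          (q.commE s hsE x hxE) hy' (q.commE s hsE y' hyE) hxf hyf⟩
    have h2 : ⁅⁅u, x⁆, x⁆ ∈ wsub (P ⊔ R) := by
      refine (le_trans ?_ (le_iSup (fun s : {s : G // s ∈ P ⊔ R ∧ s ≠ 1} => theta (P ⊔ R) (s : G))
        ⟨z, hzE, hz1⟩)) (commutator_mem_commutator hdel hxE)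
      exact le_trans le_sup_left (gTwo_le_theta h q (two_le q hzE hvE)
        (q.card_pair hzE hvE hz1 hv.2 hvz) (mem_sup_left (mem_zpowers z)))
    rw [hW, mem_bot] at h2
    refine eq_one_of_sq hfo ?_
    rw [← h2]
    simp only [commutatorElement_def, mul_inv_rev, inv_inv, π.inv_eq_of_X hx, pow_two, mul_assoc]
    simp only [← mul_assoc]
    simp only [mul_assoc, π.sq_eq_one_of_X hx, mul_one]
  have htx : Commute x ⁅x, y⁆ := mem_cent_iff.1 (hcen ht)
  have hinv : x * ⁅x, y⁆ * x⁻¹ = ⁅x, y⁆⁻¹ := by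
    rw [commutatorElement_def]
    simp only [mul_inv_rev, inv_inv, π.inv_eq_of_X hx, ← mul_assoc, π.sq_eq_one_of_X hx, one_mul]
  rw [htx.eq, mul_inv_cancel_right] at hinv
  exact commutatorElement_eq_one_iff_commute.1 (eq_one_of_sq (core_orderOf ht)
    (by rw [pow_two]; exact eq_inv_iff_mul_eq_one.1 hinv))

/-- The statement proved by induction. -/
def Good (π : Pair G) : Prop :=
  ∀ x ∈ π.X, ∀ y ∈ π.Y, ⁅x, y⁆ ∈ Cfsg.oddCore G

lemma Good.swap {π : Pair G} (h : Good π.swap) : Good π := fun x hx y hy => by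
  rw [← commutatorElement_inv]
  exact inv_mem (h y hy x hx)

/-- A central involution of the first member can be factored out. -/
lemma good_of_central (ih : ∀ (H : Type u) [Group H] [Finite H], Nat.card H < Nat.card G →
      ∀ π : Pair H, Good π) (hO : Cfsg.oddCore G = ⊥) (π : Pair G) {z : G} (hz : z ∈ π.X)
    (hzc : z ∈ center G) : Good π := by
  intro x hx y hy
  have hzp : IsPGroup 2 (zpowers z) := π.isPGroup_of_A hz.2
  have hle : zpowers z ≤ center G := zpowers_le.2 hzc
  haveI : (zpowers z).Normal := ⟨fun n hn g => by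
    rw [(mem_center_iff.1 (hle hn) g), mul_inv_cancel_right]; exact hn⟩
  have hzA : ∀ n ∈ zpowers z, n ∈ π.A := fun n hn => by
    rcases (show n = 1 ∨ n = z by
      obtain ⟨i, rfl⟩ := mem_zpowers_iff.1 hn
      rcases Int.even_or_odd i with ⟨j, rfl⟩ | ⟨j, rfl⟩
      · left; rw [← two_mul, zpow_mul, zpow_two, π.sq_eq_one_of_X hz, one_zpow]
      · right; rw [zpow_add, zpow_mul, zpow_two, π.sq_eq_one_of_X hz, one_zpow, one_mul, zpow_one])
      with rfl | rfl
    · exact π.oneA
    · exact hz.2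
  by_cases hxN : x ∈ zpowers z
  · rw [commutatorElement_eq_one_iff_commute.2 (mem_center_iff.1 (hle hxN) y).symm]
    exact one_mem _
  have hd : ∀ a ∈ π.A, ∀ b ∈ π.B, (a : G ⧸ zpowers z) = (b : G ⧸ zpowers z) →
      (a : G ⧸ zpowers z) = 1 := by
    intro a ha b hb he
    have hn : a⁻¹ * b ∈ zpowers z := (QuotientGroup.eq).1 he
    have hP : IsPGroup 2 ↥(zpowers a ⊔ zpowers z) :=
      IsPGroup.to_sup_of_normal_right (π.isPGroup_of_A ha) hzp
    have hbA : b ∈ π.A := by
      have := π.mulA _ hP a ha (mem_sup_left (mem_zpowers a)) _ (hzA _ hn) (mem_sup_right hn)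
      rwa [mul_inv_cancel_left] at this
    rw [he, π.disj b hbA hb]
    rfl
  have hlt : Nat.card (G ⧸ zpowers z) < Nat.card G := by
    have h1 := Subgroup.card_eq_card_quotient_mul_card_subgroup (zpowers z)
    rw [Nat.card_zpowers, hz.1] at h1
    have : 0 < Nat.card (G ⧸ zpowers z) := Nat.card_pos
    omega
  have hord : ∀ {w : G}, orderOf w = 2 → w ∉ zpowers z → orderOf (w : G ⧸ zpowers z) = 2 :=
    fun hw hwn => orderOf_eq_prime (p := 2) (by
      rw [← QuotientGroup.mk_pow, ← hw, pow_orderOf_eq_one]; rfl)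
      (fun e => hwn ((QuotientGroup.eq_one_iff _).1 e))
  have hyN : y ∉ zpowers z := fun hyN => π.swap.ne_one_of_X hy (π.disj y (hzA y hyN) hy.2)
  have := ih (G ⧸ zpowers z) hlt (π.quotient (zpowers z) hd) (x : G ⧸ zpowers z)
    ⟨hord hx.1 hxN, x, hx.2, rfl⟩ (y : G ⧸ zpowers z) ⟨hord hy.1 hyN, y, hy.2, rfl⟩
  rw [ZStar.CentralWeaklyClosed.oddCore_quotient_central hO _ hle hzp, mem_bot] at this
  have hn : ⁅x, y⁆ ∈ zpowers z := by
    rw [← QuotientGroup.eq_one_iff]
    simpa [commutatorElement_def] using this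
  have hP : IsPGroup 2 ↥(zpowers y ⊔ zpowers z) :=
    IsPGroup.to_sup_of_normal_right (π.swap.isPGroup_of_A hy.2) hzp
  have hmem : ⁅x, y⁆ * y ∈ π.B := by
    rw [commutatorElement_def, inv_mul_cancel_right]
    exact π.conjB x y hy.2
  have h1 : ⁅x, y⁆ ∈ π.B := by
    have := π.mulB _ hP _ hmem (mul_mem (mem_sup_right hn) (mem_sup_left (mem_zpowers y))) y⁻¹
      (π.swap.invA hy.2) (inv_mem (mem_sup_left (mem_zpowers y)))
    rwa [mul_inv_cancel_right] at this
  rw [π.disj _ (hzA _ hn) h1]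
  exact one_mem _

/-- Involutions of the two members commute modulo the odd core. -/
theorem good : ∀ (n : ℕ) (G : Type u) [Group G] [Finite G], Nat.card G = n →
    ∀ π : Pair G, Good π := by
  intro n
  induction n using Nat.strong_induction_on with
  | _ n ih =>
  intro G _ _ hn π
  subst hn
  haveI : Fact (Nat.Prime 2) := ⟨Nat.prime_two⟩
  have ih' : ∀ (H : Type u) [Group H] [Finite H], Nat.card H < Nat.card G →
      ∀ π : Pair H, Good π := fun H _ _ hH => ih _ hH H rfl
  by_cases hO : Cfsg.oddCore G = ⊥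
  swap
  · intro x hx y hy
    have hlt : Nat.card (G ⧸ Cfsg.oddCore G) < Nat.card G := by
      have h1 := Subgroup.card_eq_card_quotient_mul_card_subgroup (Cfsg.oddCore G)
      have h2 : 1 < Nat.card (Cfsg.oddCore G) := Subgroup.one_lt_card_iff_ne_bot _ |>.2 hO
      rw [h1]
      exact lt_mul_of_one_lt_right Nat.card_pos h2
    have hodd := InvChar.Core.odd_card_oddCore (G := G)
    have hord : ∀ {w : G}, orderOf w = 2 → orderOf (w : G ⧸ Cfsg.oddCore G) = 2 := fun hw =>
      orderOf_eq_prime (p := 2) (by rw [← QuotientGroup.mk_pow, ← hw, pow_orderOf_eq_one]; rfl)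
        (fun e => by
          have hd := Subgroup.orderOf_dvd_natCard _ ((QuotientGroup.eq_one_iff _).1 e)
          rw [hw, ← even_iff_two_dvd] at hd
          exact Nat.not_even_iff_odd.2 hodd hd)
    have := ih' _ hlt (π.quotient _ (π.disj_mod_odd hodd)) (x : G ⧸ Cfsg.oddCore G)
      ⟨hord hx.1, x, hx.2, rfl⟩ (y : G ⧸ Cfsg.oddCore G) ⟨hord hy.1, y, hy.2, rfl⟩
    rw [InvChar.Core.oddCore_quotient_oddCore_eq_bot, mem_bot] at this
    rw [← QuotientGroup.eq_one_iff]
    simpa [commutatorElement_def] using this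
  by_cases hXc : ∃ z ∈ π.X, z ∈ center G
  · obtain ⟨z, hz, hzc⟩ := hXc
    exact good_of_central ih' hO π hz hzc
  by_cases hYc : ∃ z ∈ π.Y, z ∈ center G
  · obtain ⟨z, hz, hzc⟩ := hYc
    exact (good_of_central ih' hO π.swap hz hzc).swap
  push Not at hXc hYc
  have hctx : Ctx π := by
    refine ⟨hO, fun H hH x hx hxH y hy hyH => ?_, hXc, hYc, fun x hx y hy hc hz => ?_⟩
    · have hlt : Nat.card H < Nat.card G :=
        lt_of_le_of_ne (Nat.le_of_dvd Nat.card_pos (Subgroup.card_subgroup_dvd_card H))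
          (fun e => hH (Subgroup.eq_top_of_card_eq _ e))
      exact ⟨⁅(⟨x, hxH⟩ : H), ⟨y, hyH⟩⁆, ih' H hlt (π.restrict H) ⟨x, hxH⟩ (π.mem_restrict_X.2 hx)
        ⟨y, hyH⟩ (π.mem_restrict_Y.2 hy), by simp [commutatorElement_def]⟩
    · refine hXc x hx (ZStar.Main.mem_center_of_isolated hO ⟨hx.1, fun g hg => ?_⟩)
      by_contra hne
      obtain ⟨T, hxT, hx'T⟩ := exists_sylow_mem_pair (π.sq_eq_one_of_X hx)
        (π.sq_eq_one_of_X (π.conjX g hx)) hg
      have hzo : (x * y) * (x * y) = 1 := by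
        rw [mul_assoc, ← mul_assoc y, hc.symm.eq, mul_assoc, π.swap.sq_eq_one_of_X hy, mul_one,
          π.sq_eq_one_of_X hx]
      haveI : (zpowers (x * y)).Normal := ⟨fun n hn g => by
        rw [mem_center_iff.1 ((zpowers_le.2 hz) hn) g, mul_inv_cancel_right]; exact hn⟩
      have hzT : x * y ∈ (T : Subgroup G) := Cores.pCore_le_sylow T (Cores.le_pCore
        (Pair.isPGroup_zpowers (k := 1) (by rw [pow_one, pow_two, hzo])) (mem_zpowers _))
      have hyT : y ∈ (T : Subgroup G) := by simpa using mul_mem (inv_mem hxT) hzT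
      have hy' : g * y * g⁻¹ = g * x * g⁻¹ * (x * y) := by
        rw [show g * x * g⁻¹ * (x * y) = g * x * g⁻¹ * (g * (x * y) * g⁻¹) by
            rw [mem_center_iff.1 hz g, mul_inv_cancel_right],
          show g * x * g⁻¹ * (g * (x * y) * g⁻¹) = g * (x * x * y) * g⁻¹ by group,
          π.sq_eq_one_of_X hx, one_mul]
      have hy'T : g * y * g⁻¹ ∈ (T : Subgroup G) := hy' ▸ mul_mem hx'T hzT
      have hA : g * x * g⁻¹ * x ∈ π.A :=
        π.mulA T T.2 _ (π.conjA g x hx.2) hx'T x hx.2 hxT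
      have hB : g * y * g⁻¹ * y ∈ π.B :=
        π.mulB T T.2 _ (π.conjB g y hy.2) hy'T y hy.2 hyT
      have he : g * x * g⁻¹ * x = g * y * g⁻¹ * y := by
        rw [hy', mul_assoc (g * x * g⁻¹) (x * y) y, mul_assoc x y y, π.swap.sq_eq_one_of_X hy, mul_one]
      have h1 := π.disj _ hA (he ▸ hB)
      exact hne ((eq_inv_of_mul_eq_one_left h1).trans (π.inv_eq_of_X hx))
  intro x hx y hy
  rw [commutatorElement_eq_one_iff_commute.2 (hctx.commute hx hy)]
  exact one_mem _

end Cfsg.Agent.ProductFusion
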