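import Cfsg.Agent.GStructB.ProductFusion.Involutions
import Cfsg.Agent.Lib.ZStar.StronglyClosedCommute

/-!
# Product fusion

Two disjoint commuting strongly closed 2-subgroups generate normal subgroups commuting modulo the
odd core.
-/

set_option autoImplicit false
set_option linter.style.haveILetI false
set_option linter.unusedSectionVars false

open Subgroup
open scoped commutatorElement

namespace Cfsg.Agent.ProductFusion

universe u

variable {G : Type u} [Group G] [Finite G]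

/-- All elements of the two members commute modulo the odd core. -/
def Full (π : Pair G) : Prop :=
  ∀ a ∈ π.A, ∀ b ∈ π.B, ⁅a, b⁆ ∈ Cfsg.oddCore G

lemma Full.swap {π : Pair G} (h : Full π.swap) : Full π := fun a ha b hb => by
  rw [← commutatorElement_inv]
  exact inv_mem (h b hb a ha)

/-- The normal subgroup generated by an invariant set. -/
lemma closure_normal {s : Set G} (hs : ∀ (g : G), ∀ z ∈ s, g * z * g⁻¹ ∈ s) :
    (closure s).Normal := by
  refine ⟨fun n hn g => ?_⟩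
  have : closure s ≤ (closure s).comap (MulAut.conj g).toMonoidHom := by
    rw [closure_le]
    exact fun z hz => Subgroup.subset_closure (hs g z hz)
  exact this hn

lemma isPGroup_involution_power {x : G} (hx : x ≠ 1) (h : ∃ k : ℕ, x ^ 2 ^ k = 1) :
    ∃ n : ℕ, orderOf (x ^ n) = 2 := by
  obtain ⟨k, hk⟩ := h
  obtain ⟨j, -, hj⟩ := (Nat.dvd_prime_pow Nat.prime_two).1 (orderOf_dvd_of_pow_eq_one hk)
  have hj0 : j ≠ 0 := fun e => hx (orderOf_eq_one_iff.1 (by rw [hj, e, pow_zero]))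
  refine ⟨2 ^ (j - 1), ?_⟩
  rw [orderOf_pow_of_dvd (by positivity) (by rw [hj]; exact pow_dvd_pow 2 (by omega)), hj]
  rw [show 2 ^ j = 2 ^ (j - 1) * 2 by rw [← pow_succ, Nat.sub_add_cancel (Nat.pos_of_ne_zero hj0)]]
  exact Nat.mul_div_cancel_left _ (by positivity)

/-- A normal 2-subgroup inside the first member can be factored out. -/
lemma full_of_normal (ih : ∀ (H : Type u) [Group H] [Finite H], Nat.card H < Nat.card G →
      ∀ π : Pair H, Full π) (hO : Cfsg.oddCore G = ⊥) (π : Pair G) {N : Subgroup G} [N.Normal]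
    (hN : IsPGroup 2 N) (hN1 : N ≠ ⊥) (hNA : ∀ n ∈ N, n ∈ π.A) : Full π := by
  haveI : Fact (Nat.Prime 2) := ⟨Nat.prime_two⟩
  intro a ha b hb
  have hd : ∀ a ∈ π.A, ∀ b ∈ π.B, (a : G ⧸ N) = (b : G ⧸ N) → (a : G ⧸ N) = 1 := by
    intro a ha b hb he
    have hn : a⁻¹ * b ∈ N := (QuotientGroup.eq).1 he
    have hP : IsPGroup 2 ↥(zpowers a ⊔ N) := IsPGroup.to_sup_of_normal_right (π.isPGroup_of_A ha) hN
    have hbA : b ∈ π.A := by
      have := π.mulA _ hP a ha (mem_sup_left (mem_zpowers a)) _ (hNA _ hn) (mem_sup_right hn)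
      rwa [mul_inv_cancel_left] at this
    rw [he, π.disj b hbA hb]
    rfl
  have hlt : Nat.card (G ⧸ N) < Nat.card G := by
    rw [Subgroup.card_eq_card_quotient_mul_card_subgroup N]
    exact lt_mul_of_one_lt_right Nat.card_pos (Subgroup.one_lt_card_iff_ne_bot _ |>.2 hN1)
  have h1 := ih (G ⧸ N) hlt (π.quotient N hd) (a : G ⧸ N) ⟨a, ha, rfl⟩ (b : G ⧸ N) ⟨b, hb, rfl⟩
  set W := (Cfsg.oddCore (G ⧸ N)).comap (QuotientGroup.mk' N) with hW
  have hcW : ⁅a, b⁆ ∈ W := by
    show QuotientGroup.mk' N ⁅a, b⁆ ∈ Cfsg.oddCore (G ⧸ N)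
    rw [map_commutatorElement]
    exact h1
  set L := closure π.B with hL
  haveI hLn : L.Normal := closure_normal π.conjB
  haveI hWn : W.Normal := Subgroup.Normal.comap inferInstance _
  set V := W ⊓ L with hV
  haveI hVn : V.Normal := Subgroup.normal_inf_normal W L
  have hcL : ⁅a, b⁆ ∈ L := by
    rw [commutatorElement_def]
    exact mul_mem (hLn.conj_mem b (Subgroup.subset_closure hb) a)
      (inv_mem (Subgroup.subset_closure hb))
  have hLC : ∀ n ∈ N, L ≤ centralizer ({n} : Set G) := by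
    intro n hn
    rw [hL, closure_le]
    intro b' hb'
    exact mem_cent_iff.2 (π.comm _ (IsPGroup.to_sup_of_normal_right (π.swap.isPGroup_of_A hb') hN)
      n (hNA n hn) (mem_sup_right hn) b' hb' (mem_sup_left (mem_zpowers b')))
  set D := N.subgroupOf V with hD
  have hDc : D ≤ center V := by
    intro d hd'
    rw [mem_center_iff]
    intro v
    exact Subtype.ext (mem_cent_iff.1 (hLC _ hd' v.2.2)).eq.symm
  haveI : D.Normal := ⟨fun n hn g => by rw [mem_center_iff.1 (hDc hn) g, mul_inv_cancel_right]; exact hn⟩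
  have hDp : IsPGroup 2 D := hN.comap_subtype
  have hVO : Cfsg.oddCore V = ⊥ :=
    InvChar.Core.oddCore_eq_bot_of_isSubnormal hO (Subgroup.Normal.isSubnormal hVn)
  have hVD := ZStar.CentralWeaklyClosed.oddCore_quotient_central hVO D hDc hDp
  have hodd : Odd (Nat.card (V ⧸ D)) := by
    set φ := (QuotientGroup.mk' N).comp V.subtype with hφ
    have hker : φ.ker = D := by
      ext v
      simp [hφ, hD, mem_subgroupOf]
    have hr : Nat.card (V ⧸ D) = Nat.card φ.range := by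
      rw [← hker]
      exact Nat.card_congr (QuotientGroup.quotientKerEquivRange φ).toEquiv
    rw [hr]
    refine InvChar.Core.odd_card_oddCore.of_dvd_nat (card_dvd_of_le ?_)
    rintro _ ⟨v, rfl⟩
    exact v.2.1
  have htop : (⊤ : Subgroup (V ⧸ D)) ≤ ⊥ := hVD ▸ InvChar.Core.le_oddCore inferInstance
    (by rwa [Nat.card_congr Subgroup.topEquiv.toEquiv])
  have hc : ⁅a, b⁆ ∈ N := by
    have := htop (mem_top ((⟨⁅a, b⁆, hcW, hcL⟩ : V) : V ⧸ D))
    rw [mem_bot, QuotientGroup.eq_one_iff] at this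
    exact this
  have hP : IsPGroup 2 ↥(zpowers b ⊔ N) :=
    IsPGroup.to_sup_of_normal_right (π.swap.isPGroup_of_A hb) hN
  have hmem : ⁅a, b⁆ * b ∈ π.B := by
    rw [commutatorElement_def, inv_mul_cancel_right]
    exact π.conjB a b hb
  have h2 : ⁅a, b⁆ ∈ π.B := by
    have := π.mulB _ hP _ hmem (mul_mem (mem_sup_right hc) (mem_sup_left (mem_zpowers b))) b⁻¹
      (π.swap.invA hb) (inv_mem (mem_sup_left (mem_zpowers b)))
    rwa [mul_inv_cancel_right] at this
  rw [π.disj _ (hNA _ hc) h2]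
  exact one_mem _

/-- A member meeting the centre of a core-free normal subgroup gives a normal 2-subgroup. -/
lemma full_of_center (ih : ∀ (H : Type u) [Group H] [Finite H], Nat.card H < Nat.card G →
      ∀ π : Pair H, Full π) (hO : Cfsg.oddCore G = ⊥) (π : Pair G) {L : Subgroup G} [L.Normal]
    {x : G} (hx : x ∈ π.X) (hxL : x ∈ L) (hxc : ∀ l ∈ L, Commute x l) : Full π := by
  set Z := (center L).map L.subtype with hZ
  haveI : Z.Normal := Cores.normal_map_subtype L (center L)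
  have hZp : IsPGroup 2 Z := (InvChar.Core.isPGroup_center_of_oddCore_eq_bot
    (InvChar.Core.oddCore_eq_bot_of_isSubnormal hO (Subgroup.Normal.isSubnormal inferInstance))).map _
  set N := π.secA Z hZp with hN
  haveI : N.Normal :=
    ⟨fun n hn g => ⟨π.conjA g n hn.1, Subgroup.Normal.conj_mem inferInstance n hn.2 g⟩⟩
  have hxN : x ∈ N := ⟨hx.2, ⟨x, hxL⟩, mem_center_iff.2 fun l => Subtype.ext (hxc l l.2).eq.symm, rfl⟩
  exact full_of_normal ih hO π (hZp.to_le (π.secA_le _ _)) (fun e => π.ne_one_of_X hx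
    (mem_bot.1 (e ▸ hxN))) fun n hn => hn.1

/-- Members avoiding a core-free normal subgroup centralize it. -/
lemma commute_of_avoid (hO : Cfsg.oddCore G = ⊥) (π : Pair G) {L : Subgroup G} [L.Normal]
    (hav : ∀ x ∈ π.X, x ∉ L) {a : G} (ha : a ∈ π.A) {l : G} (hl : l ∈ L) : Commute a l := by
  haveI : Fact (Nat.Prime 2) := ⟨Nat.prime_two⟩
  obtain ⟨T, hT⟩ := (π.isPGroup_of_A ha).exists_le_sylow
  set A' := π.secA T T.2 with hA'
  have hsc : Cfsg.IsStronglyClosed A' (T : Subgroup G) :=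
    ⟨π.secA_le _ _, fun z hz g hg => ⟨π.conjA g z hz.1, hg⟩⟩
  have hdis : A' ⊓ L = ⊥ := by
    rw [Subgroup.eq_bot_iff_forall]
    rintro z ⟨hzA, hzL⟩
    by_contra hz1
    obtain ⟨n, hn⟩ := isPGroup_involution_power hz1 (π.twoA z hzA.1)
    exact hav _ ⟨hn, π.powA hzA.1 n⟩ (pow_mem hzL n)
  have := ZStar.StronglyClosedCommute.le_centralizer T A' hsc L
    (le_normalizer_of_normal) (InvChar.Core.oddCore_eq_bot_of_isSubnormal hO
      (Subgroup.Normal.isSubnormal inferInstance)) hdis ⟨ha, hT (mem_zpowers a)⟩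
  exact (mem_centralizer_iff.1 this l hl).symm

/-- **Product fusion.** -/
theorem full : ∀ (n : ℕ) (G : Type u) [Group G] [Finite G], Nat.card G = n →
    ∀ π : Pair G, Full π := by
  intro n
  induction n using Nat.strong_induction_on with
  | _ n ih =>
  intro G _ _ hn π
  subst hn
  have ih' : ∀ (H : Type u) [Group H] [Finite H], Nat.card H < Nat.card G →
      ∀ π : Pair H, Full π := fun H _ _ hH => ih _ hH H rfl
  by_cases hO : Cfsg.oddCore G = ⊥
  swap
  · intro a ha b hb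
    have hlt : Nat.card (G ⧸ Cfsg.oddCore G) < Nat.card G := by
      rw [Subgroup.card_eq_card_quotient_mul_card_subgroup (Cfsg.oddCore G)]
      exact lt_mul_of_one_lt_right Nat.card_pos (Subgroup.one_lt_card_iff_ne_bot _ |>.2 hO)
    have := ih' _ hlt (π.quotient _ (π.disj_mod_odd InvChar.Core.odd_card_oddCore))
      (a : G ⧸ Cfsg.oddCore G) ⟨a, ha, rfl⟩ (b : G ⧸ Cfsg.oddCore G) ⟨b, hb, rfl⟩
    rw [InvChar.Core.oddCore_quotient_oddCore_eq_bot, mem_bot] at this
    rw [← QuotientGroup.eq_one_iff]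
    simpa [commutatorElement_def] using this
  have hXY : ∀ x ∈ π.X, ∀ y ∈ π.Y, Commute x y := fun x hx y hy =>
    commutatorElement_eq_one_iff_commute.1 (mem_bot.1 (hO ▸ good _ G rfl π x hx y hy))
  haveI : (closure π.Y).Normal := closure_normal fun g z hz => π.swap.conjX g hz
  by_cases hmeet : ∃ x ∈ π.X, x ∈ closure π.Y
  · obtain ⟨x, hx, hxL⟩ := hmeet
    refine full_of_center ih' hO π hx hxL fun l hl => ?_
    have : closure π.Y ≤ centralizer ({x} : Set G) := by
      rw [closure_le]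
      exact fun y hy => mem_cent_iff.2 (hXY x hx y hy)
    exact mem_cent_iff.1 (this hl)
  push Not at hmeet
  haveI : (closure π.A).Normal := closure_normal π.conjA
  by_cases hmeet' : ∃ y ∈ π.Y, y ∈ closure π.A
  · obtain ⟨y, hy, hyK⟩ := hmeet'
    refine (full_of_center ih' hO π.swap hy hyK fun k hk => ?_).swap
    have : closure π.A ≤ centralizer ({y} : Set G) := by
      rw [closure_le]
      exact fun a ha => mem_cent_iff.2
        (commute_of_avoid hO π hmeet ha (Subgroup.subset_closure hy)).symm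
    exact mem_cent_iff.1 (this hk)
  push Not at hmeet'
  intro a ha b hb
  rw [commutatorElement_eq_one_iff_commute.2
    (commute_of_avoid hO π.swap hmeet' hb (Subgroup.subset_closure ha)).symm]
  exact one_mem _

/-- A disjoint commuting pair of strongly closed subgroups. -/
def Pair.ofStronglyClosed (T : Sylow 2 G) (S₁ S₂ : Subgroup G)
    (h₁ : Cfsg.IsStronglyClosed S₁ (T : Subgroup G)) (h₂ : Cfsg.IsStronglyClosed S₂ (T : Subgroup G))
    (hc : ∀ a ∈ S₁, ∀ b ∈ S₂, a * b = b * a) (hd : S₁ ⊓ S₂ = ⊥) : Pair G := by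
  haveI : Fact (Nat.Prime 2) := ⟨Nat.prime_two⟩
  have key : ∀ {S : Subgroup G}, Cfsg.IsStronglyClosed S (T : Subgroup G) → ∀ P : Subgroup G,
      IsPGroup 2 P → ∃ c : G, ∀ a, a ∈ P → (∃ g s, s ∈ S ∧ a = g * s * g⁻¹) → c * a * c⁻¹ ∈ S := by
    intro S hS P hP
    obtain ⟨T', hT'⟩ := hP.exists_le_sylow
    obtain ⟨c, hc'⟩ := MulAction.exists_smul_eq G T' T
    refine ⟨c, ?_⟩
    rintro a haP ⟨g, s, hs, rfl⟩
    have hmem : c * (g * s * g⁻¹) * c⁻¹ ∈ (T : Subgroup G) := by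
      rw [← hc', Sylow.coe_subgroup_smul]
      exact ⟨_, hT' haP, rfl⟩
    rw [show c * (g * s * g⁻¹) * c⁻¹ = c * g * s * (c * g)⁻¹ by group] at hmem ⊢
    exact hS.2 s hs _ hmem
  have two : ∀ {S : Subgroup G}, Cfsg.IsStronglyClosed S (T : Subgroup G) → ∀ g s, s ∈ S →
      ∃ k : ℕ, (g * s * g⁻¹) ^ 2 ^ k = 1 := by
    intro S hS g s hs
    obtain ⟨k, hk⟩ := T.2 ⟨s, hS.1 hs⟩
    exact ⟨k, by rw [conj_pow, show s ^ 2 ^ k = 1 from congrArg Subtype.val hk, mul_one, mul_inv_cancel]⟩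
  have mulS : ∀ {S : Subgroup G}, Cfsg.IsStronglyClosed S (T : Subgroup G) → ∀ P : Subgroup G,
      IsPGroup 2 P → ∀ a, (∃ g s, s ∈ S ∧ a = g * s * g⁻¹) → a ∈ P →
      ∀ b, (∃ g s, s ∈ S ∧ b = g * s * g⁻¹) → b ∈ P → ∃ g s, s ∈ S ∧ a * b = g * s * g⁻¹ := by
    intro S hS P hP a ha haP b hb hbP
    obtain ⟨c, hc'⟩ := key hS P hP
    exact ⟨c⁻¹, c * a * c⁻¹ * (c * b * c⁻¹), mul_mem (hc' a haP ha) (hc' b hbP hb), by group⟩
  refine
    { A := {a | ∃ g s, s ∈ S₁ ∧ a = g * s * g⁻¹}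
      B := {a | ∃ g s, s ∈ S₂ ∧ a = g * s * g⁻¹}
      conjA := ?_, conjB := ?_
      oneA := ⟨1, 1, one_mem _, by group⟩
      oneB := ⟨1, 1, one_mem _, by group⟩
      twoA := ?_, twoB := ?_
      mulA := fun P hP a ha haP b hb hbP => mulS h₁ P hP a ha haP b hb hbP
      mulB := fun P hP a ha haP b hb hbP => mulS h₂ P hP a ha haP b hb hbP
      disj := ?_, comm := ?_ }
  · rintro g _ ⟨g', s, hs, rfl⟩
    exact ⟨g * g', s, hs, by group⟩
  · rintro g _ ⟨g', s, hs, rfl⟩
    exact ⟨g * g', s, hs, by group⟩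
  · rintro _ ⟨g, s, hs, rfl⟩
    exact two h₁ g s hs
  · rintro _ ⟨g, s, hs, rfl⟩
    exact two h₂ g s hs
  · rintro _ ⟨g, s, hs, rfl⟩ ⟨g', t, ht, he⟩
    have h1 : g'⁻¹ * g * s * (g'⁻¹ * g)⁻¹ = t := by
      calc g'⁻¹ * g * s * (g'⁻¹ * g)⁻¹ = g'⁻¹ * (g * s * g⁻¹) * g' := by group
        _ = t := by rw [he]; group
    have h2 : t ∈ S₁ := h1 ▸ h₁.2 s hs (g'⁻¹ * g) (h1.symm ▸ h₂.1 ht)
    have : t ∈ S₁ ⊓ S₂ := ⟨h2, ht⟩
    rw [hd, mem_bot] at this
    rw [he, this]; group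
  · intro P hP a ha haP b hb hbP
    obtain ⟨T', hT'⟩ := hP.exists_le_sylow
    obtain ⟨c, hc'⟩ := MulAction.exists_smul_eq G T' T
    have hmem : ∀ {S : Subgroup G}, Cfsg.IsStronglyClosed S (T : Subgroup G) → ∀ {z : G}, z ∈ P →
        (∃ g s, s ∈ S ∧ z = g * s * g⁻¹) → c * z * c⁻¹ ∈ S := by
      rintro S hS z hzP ⟨g, s, hs, rfl⟩
      have hm : c * (g * s * g⁻¹) * c⁻¹ ∈ (T : Subgroup G) := by
        rw [← hc', Sylow.coe_subgroup_smul]
        exact ⟨_, hT' hzP, rfl⟩
      rw [show c * (g * s * g⁻¹) * c⁻¹ = c * g * s * (c * g)⁻¹ by group] at hm ⊢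
      exact hS.2 s hs _ hm
    have h3 : Commute (c * a * c⁻¹) (c * b * c⁻¹) := hc _ (hmem h₁ haP ha) _ (hmem h₂ hbP hb)
    have := h3.map (MulAut.conj c⁻¹).toMonoidHom
    simpa [mul_assoc] using this

lemma normalClosure_le_closure (π : Pair G) {S : Subgroup G} (hS : ∀ s ∈ S, s ∈ π.A) :
    normalClosure (S : Set G) ≤ closure π.A := by
  haveI : (closure π.A).Normal := closure_normal π.conjA
  exact normalClosure_le_normal fun s hs => Subgroup.subset_closure (hS s hs)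

/-- Product fusion for subgroups of a group without odd core. -/
theorem commutator_normalClosure_eq_bot (hO : Cfsg.oddCore G = ⊥) (T : Sylow 2 G)
    (S₁ S₂ : Subgroup G) (h₁ : Cfsg.IsStronglyClosed S₁ (T : Subgroup G))
    (h₂ : Cfsg.IsStronglyClosed S₂ (T : Subgroup G)) (hc : ∀ a ∈ S₁, ∀ b ∈ S₂, a * b = b * a)
    (hd : S₁ ⊓ S₂ = ⊥) :
    ⁅normalClosure (S₁ : Set G), normalClosure (S₂ : Set G)⁆ = ⊥ := by
  set π := Pair.ofStronglyClosed T S₁ S₂ h₁ h₂ hc hd with hπ
  have hA : ∀ s ∈ S₁, s ∈ π.A := fun s hs => ⟨1, s, hs, by group⟩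
  have hB : ∀ s ∈ S₂, s ∈ π.swap.A := fun s hs => ⟨1, s, hs, by group⟩
  refine le_bot_iff.1 ((commutator_mono (normalClosure_le_closure π hA)
    (normalClosure_le_closure π.swap hB)).trans ?_)
  rw [le_bot_iff, commutator_eq_bot_iff_le_centralizer, closure_le]
  intro a ha
  rw [SetLike.mem_coe, centralizer_closure, mem_centralizer_iff]
  intro b hb
  exact (commutatorElement_eq_one_iff_commute.1
    (mem_bot.1 (hO ▸ full _ G rfl π a ha b hb))).eq.symm

end Cfsg.Agent.ProductFusion
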