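import Cfsg.Agent.GStructB.ProductFusion.Stab

/-!
# Odd invariant subgroups and neighbouring involutions normalize `W`
-/

set_option autoImplicit false
set_option linter.style.haveILetI false
set_option linter.unusedSectionVars false

open Subgroup
open scoped commutatorElement

namespace Cfsg.Agent.ProductFusion

universe u

variable {G : Type u} [Group G] [Finite G]

local notation "O[" t "]" => Cfsg.centralizerPPrimeCore 2 t

variable {π : Pair G} {P R : Subgroup G} (h : Ctx π) (q : Quad π P R)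

local notation "E₁" => P ⊔ R

include q in
lemma exists_other {a : G} (ha : a ∈ P) (ha1 : a ≠ 1) :
    ∃ a' ∈ P, a' ≠ 1 ∧ a' ≠ a ∧ two a a' = P := by
  have hex : ∃ a' ∈ P, a' ≠ 1 ∧ a' ≠ a := by
    by_contra hno
    push Not at hno
    have hle : P ≤ zpowers a := fun e he => by
      by_cases he1 : e = 1
      · rw [he1]; exact one_mem _
      · exact (hno e he he1) ▸ mem_zpowers a
    have := Nat.le_of_dvd Nat.card_pos (card_dvd_of_le hle)
    rw [q.cardP, Nat.card_zpowers, (q.memP a ha ha1).1] at this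
    omega
  obtain ⟨a', ha', h1, h2⟩ := hex
  exact ⟨a', ha', h1, h2, two_eq q le_sup_left q.cardP ha ha' ha1 h1 h2⟩

include h q

lemma centralizing_mem_stab {g b : G} (hgP : ∀ a ∈ P, Commute g a) (hb : b ∈ R) (hb1 : b ≠ 1)
    (hgb : Commute g b) : g ∈ normalizer (wsub E₁ : Set G) := by
  refine mem_stab_of_fix h q (Transfer.Fusion.map_conj_eq_self_iff.2 ?_) hb hb1
    (by rw [hgb.eq, mul_inv_cancel_right]; exact hb)
  refine mem_normalizer_iff.2 fun a => ⟨fun ha => ?_, fun ha => ?_⟩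
  · rw [(hgP a ha).eq, mul_inv_cancel_right]; exact ha
  · have := hgP _ ha
    have e : g * (g * a * g⁻¹) * g⁻¹ = g * a * g⁻¹ := by rw [this.eq, mul_inv_cancel_right]
    have e' : g * a * g⁻¹ = a := mul_left_cancel (mul_right_cancel e)
    rwa [e'] at ha

lemma centralizing_mem_stab' {g a : G} (hgR : ∀ b ∈ R, Commute g b) (ha : a ∈ P) (ha1 : a ≠ 1)
    (hga : Commute g a) : g ∈ normalizer (wsub E₁ : Set G) := by
  rw [sup_comm]
  exact centralizing_mem_stab h.swap q.swap hgR ha ha1 hga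

/-- An odd subgroup invariant under the quad normalizes `W`. -/
theorem odd_le_stab {D : Subgroup G} (hD : Odd (Nat.card D)) (hn : E₁ ≤ normalizer (D : Set G)) :
    D ≤ normalizer (wsub E₁ : Set G) := by
  have hncyc : ∀ {S : Subgroup G}, S ≤ E₁ → Nat.card S = 4 → ¬ IsCyclic S := by
    intro S hS h4 hc
    obtain ⟨g, hg⟩ := hc.exists_generator
    have h1 := orderOf_eq_card_of_forall_mem_zpowers hg
    have h2 : orderOf g ∣ 2 := orderOf_dvd_of_pow_eq_one
      (Subtype.ext (by push_cast; rw [pow_two, q.sqE g (hS g.2)]))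
    rw [h1, h4] at h2
    norm_num at h2
  have hfix : ∀ {S X : Subgroup G}, S ≤ E₁ → Nat.card S = 4 → Odd (Nat.card X) →
      E₁ ≤ normalizer (X : Set G) → ∀ {M : Subgroup G},
      (∀ v ∈ S, v ≠ 1 → X ⊓ centralizer ({v} : Set G) ≤ M) → X ≤ M := by
    intro S X hS h4 hX hXn M hM
    haveI : IsMulCommutative ↥S := ⟨⟨fun x y => Subtype.ext (q.commE x (hS x.2) y (hS y.2)).eq⟩⟩
    rw [← Coprime.fixedGen_eq (hncyc hS h4) (hS.trans hXn)
      (by rw [h4]; exact Nat.Coprime.pow_left 2 (Nat.coprime_two_left.2 hX))]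
    exact iSup₂_le fun v hv => hM v hv.1 hv.2
  have hinv : ∀ {X : Subgroup G} {v : G}, v ∈ E₁ → E₁ ≤ normalizer (X : Set G) →
      E₁ ≤ normalizer ((X ⊓ centralizer ({v} : Set G) : Subgroup G) : Set G) := fun hv hX =>
    (le_inf hX (le_trans (fun e he => mem_cent_iff.2 (q.commE _ hv e he))
      Subgroup.le_normalizer)).trans Subgroup.inf_normalizer_le_normalizer_inf
  refine hfix le_sup_right q.cardR hD hn fun b hb hb1 => ?_
  have hbE : b ∈ E₁ := mem_sup_right hb
  refine hfix le_sup_left q.cardP (hD.of_dvd_nat (card_dvd_of_le inf_le_left)) (hinv hbE hn)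
    fun a ha ha1 => ?_
  have haE : a ∈ E₁ := mem_sup_left ha
  set D₀ := D ⊓ centralizer ({b} : Set G) ⊓ centralizer ({a} : Set G) with hD₀
  have hD₀odd : Odd (Nat.card D₀) := hD.of_dvd_nat (card_dvd_of_le (inf_le_left.trans inf_le_left))
  have hD₀n : E₁ ≤ normalizer (D₀ : Set G) := hinv haE (hinv hbE hn)
  obtain ⟨a', ha', ha'1, ha'a, hPa⟩ := exists_other q ha ha1
  obtain ⟨b', hb', hb'1, hb'b, hRb⟩ := exists_other q.swap hb hb1
  have ha'E : a' ∈ E₁ := mem_sup_left ha'
  have hb'E : b' ∈ E₁ := mem_sup_right hb'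
  have hne : b' ≠ a' := fun e => π.not_mem_Y (q.memP a' ha' ha'1) (e ▸ q.memR b' hb' hb'1)
  have hcomP : ∀ {g : G}, Commute g a → Commute g a' → ∀ x ∈ P, Commute g x := by
    intro g h1 h2 x hx
    have : two a a' ≤ centralizer ({g} : Set G) :=
      sup_le (zpowers_le.2 (mem_cent_iff.2 h1)) (zpowers_le.2 (mem_cent_iff.2 h2))
    exact mem_cent_iff.1 (this (hPa.symm ▸ hx))
  have hcomR : ∀ {g : G}, Commute g b → Commute g b' → ∀ x ∈ R, Commute g x := by
    intro g h1 h2 x hx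
    have : two b b' ≤ centralizer ({g} : Set G) :=
      sup_le (zpowers_le.2 (mem_cent_iff.2 h1)) (zpowers_le.2 (mem_cent_iff.2 h2))
    exact mem_cent_iff.1 (this (hRb.symm ▸ hx))
  have hPcase : D₀ ⊓ centralizer ({a'} : Set G) ≤ normalizer (wsub E₁ : Set G) := by
    rintro g ⟨⟨⟨-, hgb⟩, hga⟩, hga'⟩
    exact centralizing_mem_stab h q (hcomP (mem_cent_iff.1 hga).symm (mem_cent_iff.1 hga').symm)
      hb hb1 (mem_cent_iff.1 hgb).symm
  refine hfix (two_le q ha'E hb'E) (q.card_pair ha'E hb'E ha'1 hb'1 hne) hD₀odd hD₀n fun v hv hv1 => ?_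
  obtain ⟨i, hi, j, hj, rfl⟩ := (Coprime.mem_sup_of_le_normalizer
    (q.le_normalizer (zpowers_le.2 ha'E) (zpowers_le.2 hb'E))).1 hv
  have hpow : ∀ {z : G}, z ∈ E₁ → ∀ w ∈ zpowers z, w = 1 ∨ w = z := by
    intro z hz w hw
    obtain ⟨i, rfl⟩ := mem_zpowers_iff.1 hw
    rcases Int.even_or_odd i with ⟨j, rfl⟩ | ⟨j, rfl⟩
    · left; rw [← two_mul, zpow_mul, zpow_two, q.sqE z hz, one_zpow]
    · right; rw [zpow_add, zpow_mul, zpow_two, q.sqE z hz, one_zpow, one_mul, zpow_one]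
  rcases hpow ha'E i hi with rfl | rfl <;> rcases hpow hb'E j hj with rfl | rfl
  · exact absurd (one_mul 1) hv1
  · rw [one_mul]
    rintro g ⟨⟨⟨-, hgb⟩, hga⟩, hgb'⟩
    exact centralizing_mem_stab' h q (hcomR (mem_cent_iff.1 hgb).symm (mem_cent_iff.1 hgb').symm)
      ha ha1 (mem_cent_iff.1 hga).symm
  · rw [mul_one]; exact hPcase
  set U := D₀ ⊓ centralizer ({i * j} : Set G) with hU
  have hvE : i * j ∈ E₁ := mul_mem ha'E hb'E
  have hUodd : Odd (Nat.card U) := hD₀odd.of_dvd_nat (card_dvd_of_le inf_le_left)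
  have hUn : E₁ ≤ normalizer (U : Set G) := hinv hvE hD₀n
  have hUi : zpowers i ≤ normalizer (U : Set G) := (zpowers_le.2 ha'E).trans hUn
  rw [← Coprime.commutator_sup_inf_centralizer hUi (by
      rw [Nat.card_zpowers]
      exact (Nat.coprime_two_left.2 hUodd).coprime_dvd_left
        (orderOf_dvd_of_pow_eq_one (by rw [pow_two, q.sqE i ha'E])))
    (Or.inr (Cfsg.Agent.S0205.result hUodd))]
  refine sup_le ?_ ?_
  swap
  · refine le_trans ?_ hPcase
    rintro g ⟨hg, hgi⟩
    exact ⟨hg.1, mem_cent_iff.2 (mem_centralizer_iff.1 hgi i (mem_zpowers i))⟩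
  rw [commutator_le]
  intro u hu w hw
  rcases hpow ha'E w hw with rfl | rfl
  · rw [commutatorElement_eq_one_iff_commute.2 (Commute.one_right u)]; exact one_mem _
  have huU : ⁅u, w⁆ ∈ U := Coprime.commutator_le_of_le_normalizer hUi
    (commutator_mem_commutator hu (mem_zpowers w))
  obtain ⟨⟨⟨-, hfb⟩, hfa⟩, hfv⟩ := huU
  have hfo : Odd (orderOf ⁅u, w⁆) := hUodd.of_dvd_nat
    (Subgroup.orderOf_dvd_natCard _ ⟨⟨⟨(Coprime.commutator_le_of_le_normalizer hUi
      (commutator_mem_commutator hu (mem_zpowers w))).1.1.1, hfb⟩, hfa⟩, hfv⟩)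
  have hwf : w * ⁅u, w⁆ * w⁻¹ = ⁅u, w⁆⁻¹ := by
    rw [commutatorElement_def]
    simp only [mul_inv_rev, inv_inv, q.invE ha'E]
    simp only [mul_assoc, q.sqE w ha'E, mul_one]
  have hjf : j * ⁅u, w⁆ * j⁻¹ = ⁅u, w⁆⁻¹ := by
    have hj' : j = w * (w * j) := by rw [← mul_assoc, q.sqE w ha'E, one_mul]
    rw [hj', show w * (w * j) * ⁅u, w⁆ * (w * (w * j))⁻¹ =
      w * ((w * j) * ⁅u, w⁆ * (w * j)⁻¹) * w⁻¹ by group, (mem_cent_iff.1 hfv).eq,
      mul_inv_cancel_right, hwf]
  have hS4 := q.card_pair haE hbE ha1 hb1 fun e => π.not_mem_Y (q.memP a ha ha1) (e ▸ q.memR b hb hb1)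
  have hmem : two a b ≤ centralizer ({⁅u, w⁆} : Set G) := sup_le
    (zpowers_le.2 (mem_cent_iff.2 (mem_cent_iff.1 hfa).symm))
    (zpowers_le.2 (mem_cent_iff.2 (mem_cent_iff.1 hfb).symm))
  have hdel : ⁅u, w⁆ ∈ delta (two a b) := mem_delta.2
    ⟨fun s hs => (mem_cent_iff.1 (hmem hs)).symm, fun s hs hs1 => by
      have hsE : s ∈ E₁ := two_le q haE hbE hs
      exact factA h (q.not_center h hsE hs1) (mem_cent_iff.1 (hmem hs)).symm hfo
        (q.memP w ha' ha'1) (q.commE s hsE w ha'E) (q.memR j hb' hb'1) (q.commE s hsE j hb'E) hwf hjf⟩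
  refine Subgroup.le_normalizer (H := wsub E₁) (mem_of_sq_mem hfo ?_)
  have := commutator_mem_commutator hdel ha'E
  rw [show ⁅⁅u, w⁆, w⁆ = ⁅u, w⁆ ^ 2 by
    simp only [commutatorElement_def, mul_inv_rev, inv_inv, q.invE ha'E, pow_two, mul_assoc]
    simp only [← mul_assoc]
    simp only [mul_assoc, q.sqE w ha'E, mul_one]] at this
  refine (le_trans ?_ (le_iSup (fun s : {s : G // s ∈ E₁ ∧ s ≠ 1} => theta E₁ (s : G))
    ⟨a, haE, ha1⟩)) this
  exact le_trans le_sup_left (gTwo_le_theta h q (two_le q haE hbE) hS4 (mem_sup_left (mem_zpowers a)))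

/-- An involution commuting with a member of `P` normalizes `W`. -/
theorem partner_mem {x x' : G} (hx : x ∈ P) (hx1 : x ≠ 1) (hx' : x' ∈ π.X) (hc : Commute x x') :
    x' ∈ normalizer (wsub E₁ : Set G) := by
  have hxE : x ∈ E₁ := mem_sup_left hx
  have hOn : E₁ ≤ normalizer (O[x] : Set G) := fun e he =>
    Components.Balance.le_normalizer_centralizerPPrimeCore 2 x (mem_cent_iff.2 (q.commE x hxE e he))
  set R' := R.map (MulAut.conj x').toMonoidHom with hR'
  have hx'n : x' ∈ normalizer (O[x] : Set G) :=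
    Components.Balance.le_normalizer_centralizerPPrimeCore 2 x (mem_cent_iff.2 hc)
  have hcomm : ∀ b ∈ R, ⁅x', b⁆ ∈ O[x] := by
    intro b hb
    by_cases hb1 : b = 1
    · rw [hb1, commutatorElement_one_right]; exact one_mem _
    exact commutator_mem_core h (q.not_center h hxE hx1) hx' hc (q.memR b hb hb1) (q.comm x hx b hb)
  have hle : R' ≤ O[x] ⊔ R := by
    rintro _ ⟨b, hb, rfl⟩
    rw [show (MulAut.conj x').toMonoidHom b = ⁅x', b⁆ * b from
      (by simp [commutatorElement_def] : x' * b * x'⁻¹ = ⁅x', b⁆ * b)]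
    exact mul_mem_sup (hcomm b hb) hb
  have hR'n : R' ≤ normalizer (O[x] : Set G) :=
    hle.trans (sup_le Subgroup.le_normalizer (le_sup_right.trans hOn))
  have hcop : ∀ {S : Subgroup G}, Nat.card S = 4 → (Nat.card ↥O[x]).Coprime (Nat.card S) := fun h4 => by
    rw [h4]; exact Nat.Coprime.pow_right 2 (Nat.coprime_two_right.2 (core_odd x))
  have h4' : Nat.card R' = 4 := by rw [hR', card_map_of_injective (MulAut.conj x').injective, q.cardR]
  have heq : O[x] ⊔ R' = O[x] ⊔ R := by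
    refine Subgroup.eq_of_le_of_card_ge (sup_le le_sup_left hle) ?_
    rw [Coprime.card_sup_of_coprime hR'n (hcop h4'),
      Coprime.card_sup_of_coprime (le_sup_right.trans hOn) (hcop q.cardR), h4', q.cardR]
  obtain ⟨c, hcO, hcR⟩ := Coprime.exists_conj_eq_of_sup_eq hR'n (le_sup_right.trans hOn) heq
    (hcop h4') (hcop q.cardR) (Or.inl (Cfsg.Agent.S0205.result (core_odd x)))
  have hcM : c ∈ normalizer (wsub E₁ : Set G) := odd_le_stab h q (core_odd x) hOn hcO
  have hRfix : R.map (MulAut.conj (c * x')).toMonoidHom = R := by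
    rw [Transfer.Fusion.map_conj_mul]
    exact hcR
  have hx2 : (c * x') * x * (c * x')⁻¹ = x := by
    have hcc : Commute c x := (core_commute hcO).symm
    have : Commute (c * x') x := hcc.mul_left hc.symm
    rw [this.eq, mul_inv_cancel_right]
  have hn : c * x' ∈ normalizer (wsub E₁ : Set G) := by
    rw [sup_comm]
    exact mem_stab_of_fix h.swap q.swap hRfix hx hx1 (by rw [hx2]; exact hx)
  simpa using mul_mem (inv_mem hcM) hn

end Cfsg.Agent.ProductFusion
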