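import Cfsg.Agent.GStructB.ProductFusion.Facts
import Cfsg.Agent.Lib.Coprime.Basic

/-!
# Commuting four-groups from the two members of a pair

A quad is a four-group from the first member commuting with a four-group from the second; the two
generate an elementary abelian group of order 16.
-/

set_option autoImplicit false
set_option linter.style.haveILetI false
set_option linter.unusedSectionVars false

open Subgroup

namespace Cfsg.Agent.ProductFusion

universe u

variable {G : Type u} [Group G] [Finite G]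

/-- Two subgroups of a group of order at most `n` with product of orders exceeding `n` meet. -/
lemma exists_ne_one_inf {E H K : Subgroup G} (hH : H ≤ E) (hK : K ≤ E)
    (hc : ∀ a ∈ E, ∀ b ∈ E, Commute a b) (hlt : Nat.card E < Nat.card H * Nat.card K) :
    ∃ x, x ≠ 1 ∧ x ∈ H ∧ x ∈ K := by
  by_contra hno
  push Not at hno
  have hd : Disjoint H K := disjoint_def.2 fun hx hy => by_contra fun h1 => hno _ h1 hx hy
  have hn : K ≤ normalizer (H : Set G) := by
    refine le_normalizer_iff.2 fun k hk x hx => ?_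
    rw [(hc k (hK hk) x (hH hx)).eq, mul_inv_cancel_right]
    exact hx
  have := card_dvd_of_le (sup_le hH hK)
  rw [Coprime.card_sup_of_disjoint hn hd] at this
  exact absurd (Nat.le_of_dvd Nat.card_pos this) (by omega)

/-- A quad for a pair. -/
structure Quad (π : Pair G) (P R : Subgroup G) : Prop where
  cardP : Nat.card P = 4
  cardR : Nat.card R = 4
  memP : ∀ a ∈ P, a ≠ 1 → a ∈ π.X
  memR : ∀ b ∈ R, b ≠ 1 → b ∈ π.Y
  comm : ∀ a ∈ P, ∀ b ∈ R, Commute a b

namespace Quad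

variable {π : Pair G} {P R : Subgroup G}

lemma swap (q : Quad π P R) : Quad π.swap R P where
  cardP := q.cardR
  cardR := q.cardP
  memP := q.memR
  memR := q.memP
  comm := fun b hb a ha => (q.comm a ha b hb).symm

variable (q : Quad π P R)

include q

lemma sqP {a : G} (ha : a ∈ P) : a * a = 1 := by
  by_cases h : a = 1
  · rw [h, one_mul]
  · exact π.sq_eq_one_of_X (q.memP a ha h)

lemma sqR {b : G} (hb : b ∈ R) : b * b = 1 := q.swap.sqP hb

lemma commP {a a' : G} (ha : a ∈ P) (ha' : a' ∈ P) : Commute a a' := by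
  show a * a' = a' * a
  calc a * a' = (a * a') * 1 := (mul_one _).symm
    _ = (a * a') * ((a' * a) * (a' * a)) := by rw [q.sqP (mul_mem ha' ha)]
    _ = (a * (a' * a') * a) * (a' * a) := by group
    _ = a' * a := by rw [q.sqP ha', mul_one, q.sqP ha, one_mul]

lemma commR {b b' : G} (hb : b ∈ R) (hb' : b' ∈ R) : Commute b b' := q.swap.commP hb hb'

lemma R_le_normalizer : R ≤ normalizer (P : Set G) := by
  refine le_normalizer_iff.2 fun b hb a ha => ?_
  rw [← (q.comm a ha b hb).eq, mul_inv_cancel_right]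
  exact ha

lemma mem_sup_iff {e : G} : e ∈ P ⊔ R ↔ ∃ a ∈ P, ∃ b ∈ R, a * b = e :=
  Coprime.mem_sup_of_le_normalizer q.R_le_normalizer

lemma commE : ∀ e ∈ P ⊔ R, ∀ e' ∈ P ⊔ R, Commute e e' := by
  intro e he e' he'
  obtain ⟨a, ha, b, hb, rfl⟩ := q.mem_sup_iff.1 he
  obtain ⟨a', ha', b', hb', rfl⟩ := q.mem_sup_iff.1 he'
  exact ((q.commP ha ha').mul_right (q.comm a ha b' hb')).mul_left
    (((q.comm a' ha' b hb).symm).mul_right (q.commR hb hb'))

lemma sqE : ∀ e ∈ P ⊔ R, e * e = 1 := by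
  intro e he
  obtain ⟨a, ha, b, hb, rfl⟩ := q.mem_sup_iff.1 he
  rw [mul_assoc, ← mul_assoc b, (q.comm a ha b hb).symm.eq, mul_assoc, q.sqR hb, mul_one, q.sqP ha]

lemma invE {e : G} (he : e ∈ P ⊔ R) : e⁻¹ = e := inv_eq_of_mul_eq_one_right (q.sqE e he)

lemma disjoint : Disjoint P R := disjoint_def.2 fun {x} hP hR => by_contra fun h1 =>
  π.not_mem_Y (q.memP x hP h1) (q.memR x hR h1)

lemma cardE : Nat.card ↥(P ⊔ R) = 16 := by
  rw [Coprime.card_sup_of_disjoint q.R_le_normalizer q.disjoint, q.cardP, q.cardR]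

lemma elem : Cfsg.IsElementaryAbelian 2 (P ⊔ R) :=
  ⟨⟨⟨fun a b => Subtype.ext (q.commE a a.2 b b.2).eq⟩⟩, fun e he => by rw [pow_two, q.sqE e he]⟩

/-- Every nontrivial element of the quad is non-central in a minimal situation. -/
lemma not_center (h : Ctx π) {r : G} (hr : r ∈ P ⊔ R) (hr1 : r ≠ 1) : r ∉ center G := by
  obtain ⟨a, ha, b, hb, rfl⟩ := q.mem_sup_iff.1 hr
  by_cases ha1 : a = 1
  · subst ha1
    rw [one_mul] at hr1 ⊢
    exact h.hYc b (q.memR b hb hr1)
  · by_cases hb1 : b = 1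
    · subst hb1
      rw [mul_one]
      exact h.hXc a (q.memP a ha ha1)
    · exact h.hZc a (q.memP a ha ha1) b (q.memR b hb hb1) (q.comm a ha b hb)

lemma isPGroup_zpowers {e : G} (he : e ∈ P ⊔ R) : IsPGroup 2 (zpowers e) :=
  Pair.isPGroup_zpowers (k := 1) (by rw [pow_one, pow_two, q.sqE e he])

/-- The normalizer condition is automatic inside the quad. -/
lemma le_normalizer {H K : Subgroup G} (hH : H ≤ P ⊔ R) (hK : K ≤ P ⊔ R) :
    K ≤ normalizer (H : Set G) := by
  refine le_normalizer_iff.2 fun k hk x hx => ?_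
  rw [(q.commE k (hK hk) x (hH hx)).eq, mul_inv_cancel_right]
  exact hx

lemma card_sup_zpowers {H : Subgroup G} {t : G} (hH : H ≤ P ⊔ R) (ht : t ∈ P ⊔ R) (htH : t ∉ H) :
    Nat.card ↥(H ⊔ zpowers t) = Nat.card H * 2 := by
  have ho : orderOf t = 2 := orderOf_eq_prime (by rw [pow_two, q.sqE t ht])
    (fun e => htH (e ▸ one_mem H))
  rw [Coprime.card_sup_of_disjoint (q.le_normalizer hH (zpowers_le.2 ht)) ?_, Nat.card_zpowers, ho]
  refine disjoint_def.2 fun {x} hxH hxt => ?_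
  obtain ⟨i, rfl⟩ := mem_zpowers_iff.1 hxt
  rcases Int.even_or_odd i with ⟨j, rfl⟩ | ⟨j, rfl⟩
  · rw [← two_mul, zpow_mul, zpow_two, q.sqE t ht, one_zpow]
  · rw [zpow_add, zpow_mul, zpow_two, q.sqE t ht, one_zpow, one_mul, zpow_one] at hxH
    exact absurd hxH htH

lemma card_pair {s t : G} (hs : s ∈ P ⊔ R) (ht : t ∈ P ⊔ R) (hs1 : s ≠ 1) (ht1 : t ≠ 1)
    (hst : t ≠ s) : Nat.card ↥(zpowers s ⊔ zpowers t) = 4 := by
  have ho : orderOf s = 2 := orderOf_eq_prime (by rw [pow_two, q.sqE s hs]) hs1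
  rw [q.card_sup_zpowers (zpowers_le.2 hs) ht, Nat.card_zpowers, ho]
  intro hmem
  obtain ⟨i, hi⟩ := mem_zpowers_iff.1 hmem
  rcases Int.even_or_odd i with ⟨j, rfl⟩ | ⟨j, rfl⟩
  · rw [← two_mul, zpow_mul, zpow_two, q.sqE s hs, one_zpow] at hi
    exact ht1 hi.symm
  · rw [zpow_add, zpow_mul, zpow_two, q.sqE s hs, one_zpow, one_mul, zpow_one] at hi
    exact hst hi.symm

lemma mul_mem_of_not_mem {H : Subgroup G} (hH : H ≤ P ⊔ R) (h8 : Nat.card H = 8) {e e' : G}
    (he : e ∈ P ⊔ R) (he' : e' ∈ P ⊔ R) (heH : e ∉ H) (he'H : e' ∉ H) : e * e' ∈ H := by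
  have hidx : (H.subgroupOf (P ⊔ R)).index = 2 := by
    have := (H.subgroupOf (P ⊔ R)).card_mul_index
    rw [Nat.card_congr (subgroupOfEquivOfLe hH).toEquiv, h8, q.cardE] at this
    omega
  have := (mul_mem_iff_of_index_two hidx (a := ⟨e, he⟩) (b := ⟨e', he'⟩)).2 (by
    simp [mem_subgroupOf, heH, he'H])
  simpa [mem_subgroupOf] using this

lemma exists_mem_P {H : Subgroup G} (hH : H ≤ P ⊔ R) (h8 : Nat.card H = 8) :
    ∃ a, a ≠ 1 ∧ a ∈ H ∧ a ∈ P :=
  exists_ne_one_inf hH le_sup_left q.commE (by rw [q.cardE, h8, q.cardP]; omega)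

lemma exists_mem_R {H : Subgroup G} (hH : H ≤ P ⊔ R) (h8 : Nat.card H = 8) :
    ∃ b, b ≠ 1 ∧ b ∈ H ∧ b ∈ R :=
  exists_ne_one_inf hH le_sup_right q.commE (by rw [q.cardE, h8, q.cardR]; omega)

/-- A subgroup of order 8 avoiding a given element. -/
lemma exists_avoiding {s : G} (hs : s ∈ P ⊔ R) (hs1 : s ≠ 1) :
    ∃ H : Subgroup G, H ≤ P ⊔ R ∧ Nat.card H = 8 ∧ s ∉ H := by
  have key : ∀ {P R : Subgroup G}, Quad π P R ∨ Quad π.swap P R →
      ∀ a ∈ P, a ≠ 1 → ∀ b ∈ R, ∃ H : Subgroup G, H ≤ P ⊔ R ∧ Nat.card H = 8 ∧ a * b ∉ H := by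
    intro P R hq a ha ha1 b hb
    obtain ⟨π', q'⟩ : ∃ π' : Pair G, Quad π' P R :=
      hq.elim (fun h => ⟨_, h⟩) (fun h => ⟨_, h⟩)
    haveI : Nontrivial P := ⟨⟨⟨a, ha⟩, 1, fun h => ha1 (congrArg Subtype.val h)⟩⟩
    have hex : ∃ c ∈ P, c ∉ zpowers a := by
      by_contra hno
      push Not at hno
      have := Nat.le_of_dvd Nat.card_pos (card_dvd_of_le (hno : P ≤ zpowers a))
      rw [q'.cardP, Nat.card_zpowers,
        orderOf_eq_prime (p := 2) (by rw [pow_two, q'.sqP ha]) ha1] at this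
      omega
    obtain ⟨c, hc, hca⟩ := hex
    have hc1 : c ≠ 1 := fun h => hca (h ▸ one_mem _)
    have hcR : c ∉ R := fun h => π'.not_mem_Y (q'.memP c hc hc1) (q'.memR c h hc1)
    refine ⟨R ⊔ zpowers c, sup_le le_sup_right ((zpowers_le.2 hc).trans le_sup_left), ?_, ?_⟩
    · rw [q'.card_sup_zpowers le_sup_right (mem_sup_left hc) hcR, q'.cardR]
    · intro hmem
      rw [Subgroup.mul_mem_cancel_right _ (mem_sup_left hb)] at hmem
      obtain ⟨b', hb', d, hd, he⟩ := (Coprime.mem_sup_of_le_normalizer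
        (q'.le_normalizer le_sup_right ((zpowers_le.2 hc).trans le_sup_left))).1 hmem
      have hb'1 : b' = 1 := by_contra fun hne => by
        have hbP : b' ∈ P := by
          rw [eq_mul_inv_of_mul_eq he]
          exact mul_mem ha (inv_mem (zpowers_le.2 hc hd))
        exact π'.not_mem_Y (q'.memP b' hbP hne) (q'.memR b' hb' hne)
      rw [hb'1, one_mul] at he
      obtain ⟨i, rfl⟩ := mem_zpowers_iff.1 hd
      rcases Int.even_or_odd i with ⟨j, rfl⟩ | ⟨j, rfl⟩
      · rw [← two_mul, zpow_mul, zpow_two, q'.sqP hc, one_zpow] at he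
        exact ha1 he.symm
      · rw [zpow_add, zpow_mul, zpow_two, q'.sqP hc, one_zpow, one_mul, zpow_one] at he
        exact hca (he ▸ mem_zpowers a)
  obtain ⟨a, ha, b, hb, rfl⟩ := q.mem_sup_iff.1 hs
  by_cases ha1 : a = 1
  · obtain ⟨H, hH, h8, hn⟩ := key (Or.inr q.swap) b hb (fun h => hs1 (by rw [ha1, h, one_mul])) a ha
    refine ⟨H, sup_comm R P ▸ hH, h8, ?_⟩
    rw [(q.comm a ha b hb).eq]
    exact hn
  · exact key (Or.inl q) a ha ha1 b hb

end Quad

end Cfsg.Agent.ProductFusion
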