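import Cfsg.Agent.GStructB.ProductFusion.Complete
import Cfsg.Agent.Lib.SolvableSignalizer.Connected
import Cfsg.Agent.Lib.ZStar.Main
import Cfsg.Agent.Lib.Coprime.SchurZassenhaus

/-!
# Quads inside a Sylow subgroup and the normalizer of `W`
-/

set_option autoImplicit false
set_option linter.style.haveILetI false
set_option linter.unusedSectionVars false

open Subgroup
open scoped commutatorElement

namespace Cfsg.Agent.ProductFusion

universe u

variable {G : Type u} [Group G] [Finite G]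

local notation "O[" t "]" => Cfsg.centralizerPPrimeCore 2 t

/-- A nontrivial 2-group has a central involution. -/
lemma exists_central_involution {K : Subgroup G} (hK : IsPGroup 2 K) {x : G} (hx : x ∈ K)
    (hx1 : x ≠ 1) : ∃ z ∈ K, orderOf z = 2 ∧ ∀ k ∈ K, Commute z k := by
  haveI : Fact (Nat.Prime 2) := ⟨Nat.prime_two⟩
  haveI : Nontrivial K := ⟨⟨⟨x, hx⟩, 1, fun e => hx1 (congrArg Subtype.val e)⟩⟩
  haveI := hK.center_nontrivial
  obtain ⟨k, hk⟩ := (IsPGroup.iff_card.1 (hK.to_subgroup (center K)))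
  have hk0 : k ≠ 0 := fun e => by
    rw [e, pow_zero] at hk
    exact (Finite.one_lt_card (α := center K)).ne' hk
  obtain ⟨z, hz⟩ := exists_prime_orderOf_dvd_card' 2
    (show 2 ∣ Nat.card (center K) by rw [hk]; exact dvd_pow_self 2 hk0)
  refine ⟨((z : K) : G), (z : K).2, ?_, fun k hk => ?_⟩
  · rw [Subgroup.orderOf_coe, Subgroup.orderOf_coe, hz]
  · exact congrArg Subtype.val (mem_center_iff.1 z.2 ⟨k, hk⟩).symm

lemma exists_sylow_mem_pair {x y : G} (hx : x * x = 1) (hy : y * y = 1) (hc : Commute x y) :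
    ∃ T : Sylow 2 G, x ∈ (T : Subgroup G) ∧ y ∈ (T : Subgroup G) := by
  haveI : Fact (Nat.Prime 2) := ⟨Nat.prime_two⟩
  have h1 : zpowers x ≤ normalizer (zpowers y : Set G) := by
    refine le_normalizer_iff.2 fun a ha b hb => ?_
    obtain ⟨i, rfl⟩ := mem_zpowers_iff.1 ha
    obtain ⟨j, rfl⟩ := mem_zpowers_iff.1 hb
    rw [((hc.zpow_zpow i j)).eq, mul_inv_cancel_right]
    exact zpow_mem (mem_zpowers y) j
  obtain ⟨T, hT⟩ := (IsPGroup.to_sup_of_normal_right'
    (Pair.isPGroup_zpowers (k := 1) (by rw [pow_one, pow_two, hx]))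
    (Pair.isPGroup_zpowers (k := 1) (by rw [pow_one, pow_two, hy])) h1).exists_le_sylow
  exact ⟨T, hT (mem_sup_left (mem_zpowers x)), hT (mem_sup_right (mem_zpowers y))⟩

/-- Commuting distinct involutions of one member give a four-group inside that member. -/
lemma four_spec (π : Pair G) {x x' : G} (hx : x ∈ π.X) (hx' : x' ∈ π.X) (hc : Commute x x')
    (hne : x ≠ x') : Nat.card ↥(two x x') = 4 ∧ ∀ a ∈ two x x', a ≠ 1 → a ∈ π.X := by
  have hn : zpowers x' ≤ normalizer (zpowers x : Set G) := by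
    refine le_normalizer_iff.2 fun a ha b hb => ?_
    obtain ⟨i, rfl⟩ := mem_zpowers_iff.1 ha
    obtain ⟨j, rfl⟩ := mem_zpowers_iff.1 hb
    rw [((hc.symm.zpow_zpow i j)).eq, mul_inv_cancel_right]
    exact zpow_mem (mem_zpowers x) j
  have hpow : ∀ {z : G}, z ∈ π.X → ∀ w ∈ zpowers z, w = 1 ∨ w = z := by
    intro z hz w hw
    obtain ⟨i, rfl⟩ := mem_zpowers_iff.1 hw
    rcases Int.even_or_odd i with ⟨j, rfl⟩ | ⟨j, rfl⟩
    · left; rw [← two_mul, zpow_mul, zpow_two, π.sq_eq_one_of_X hz, one_zpow]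
    · right; rw [zpow_add, zpow_mul, zpow_two, π.sq_eq_one_of_X hz, one_zpow, one_mul, zpow_one]
  refine ⟨?_, fun a ha ha1 => ?_⟩
  · rw [two, Coprime.card_sup_of_disjoint hn ?_, Nat.card_zpowers, Nat.card_zpowers, hx.1, hx'.1]
    refine disjoint_def.2 fun {w} h1 h2 => ?_
    rcases hpow hx w h1 with e | e
    · exact e
    rcases hpow hx' w h2 with e' | e'
    · exact e'
    exact absurd (e ▸ e') hne
  · obtain ⟨w, hw, w', hw', rfl⟩ := (Coprime.mem_sup_of_le_normalizer hn).1 ha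
    rcases hpow hx w hw with rfl | rfl <;> rcases hpow hx' w' hw' with rfl | rfl
    · exact absurd (one_mul 1) ha1
    · rwa [one_mul]
    · rwa [mul_one]
    · exact π.mulX hx hx' hc hne

variable {π : Pair G} {P R : Subgroup G} (h : Ctx π)

include h

/-- An involution of the first member has a commuting companion in every Sylow subgroup. -/
lemma exists_partner (T : Sylow 2 G) {x : G} (hx : x ∈ π.X) (hxT : x ∈ (T : Subgroup G)) :
    ∃ x', x' ∈ π.X ∧ x' ∈ (T : Subgroup G) ∧ x ≠ x' ∧ Commute x x' := by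
  haveI : Fact (Nat.Prime 2) := ⟨Nat.prime_two⟩
  obtain ⟨z, hz, hzo, hzc⟩ := exists_central_involution (K := π.secA T T.2)
    (T.2.to_le (π.secA_le _ _)) (x := x) ⟨hx.2, hxT⟩ (π.ne_one_of_X hx)
  by_cases hzx : x = z
  · subst hzx
    have hni : ¬ Cfsg.IsIsolatedInvolution x := fun hi =>
      h.hXc x hx (ZStar.Main.mem_center_of_isolated h.hO hi)
    rw [Involutions.Isolated.iff_unique_in_sylow T hx.1 hxT] at hni
    push Not at hni
    obtain ⟨g, hgT, hgne⟩ := hni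
    have hgX := π.conjX g hx
    exact ⟨g * x * g⁻¹, hgX, hgT, fun e => hgne e.symm, hzc _ ⟨hgX.2, hgT⟩⟩
  · exact ⟨z, ⟨hzo, hz.1⟩, hz.2, hzx, (hzc x ⟨hx.2, hxT⟩).symm⟩

lemma exists_four (T : Sylow 2 G) {x : G} (hx : x ∈ π.X) (hxT : x ∈ (T : Subgroup G)) :
    ∃ Q : Subgroup G, x ∈ Q ∧ Q ≤ (T : Subgroup G) ∧ Nat.card Q = 4 ∧
      ∀ a ∈ Q, a ≠ 1 → a ∈ π.X := by
  obtain ⟨x', hx', hx'T, hne, hc⟩ := exists_partner h T hx hxT
  exact ⟨two x x', mem_sup_left (mem_zpowers x),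
    sup_le (zpowers_le.2 hxT) (zpowers_le.2 hx'T), four_spec π hx hx' hc hne⟩

lemma exists_quad (T : Sylow 2 G) {x y : G} (hx : x ∈ π.X) (hxT : x ∈ (T : Subgroup G))
    (hy : y ∈ π.Y) (hyT : y ∈ (T : Subgroup G)) :
    ∃ P R : Subgroup G, Quad π P R ∧ x ∈ P ∧ y ∈ R ∧ P ≤ (T : Subgroup G) ∧
      R ≤ (T : Subgroup G) := by
  obtain ⟨P, hxP, hPT, hP4, hPX⟩ := exists_four h T hx hxT
  obtain ⟨R, hyR, hRT, hR4, hRY⟩ := exists_four h.swap T (x := y) hy hyT
  refine ⟨P, R, ⟨hP4, hR4, hPX, hRY, fun a ha b hb => ?_⟩, hxP, hyR, hPT, hRT⟩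
  by_cases ha1 : a = 1
  · rw [ha1]; exact Commute.one_left b
  by_cases hb1 : b = 1
  · rw [hb1]; exact Commute.one_right a
  exact π.comm T T.2 a (hPX a ha ha1).2 (hPT ha) b (hRY b hb hb1).2 (hRT hb)

/-- Changing `R` through a shared element. -/
lemma wsub_eq_of_share {R' : Subgroup G} (q : Quad π P R) (q' : Quad π P R') {b : G} (hb : b ∈ R)
    (hb' : b ∈ R') (hb1 : b ≠ 1) : wsub (P ⊔ R) = wsub (P ⊔ R') := by
  rw [wsub_eq_wP h q hb hb1, wsub_eq_wP h q' hb' hb1]

lemma wsub_eq_right (T : Sylow 2 G) {R' : Subgroup G} (q : Quad π P R) (q' : Quad π P R')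
    (hP : P ≤ (T : Subgroup G)) (hR : R ≤ (T : Subgroup G)) (hR' : R' ≤ (T : Subgroup G)) :
    wsub (P ⊔ R) = wsub (P ⊔ R') := by
  obtain ⟨b, hb, hb1⟩ := exists_mem q q.cardR
  obtain ⟨z, hz, hzo, hzc⟩ := exists_central_involution (K := π.swap.secA T T.2)
    (T.2.to_le (π.swap.secA_le _ _)) (x := b) ⟨(q.memR b hb hb1).2, hR hb⟩ hb1
  have hzY : z ∈ π.Y := ⟨hzo, hz.1⟩
  have key : ∀ {S : Subgroup G}, Quad π P S → S ≤ (T : Subgroup G) →
      ∃ S' : Subgroup G, Quad π P S' ∧ S' ≤ (T : Subgroup G) ∧ z ∈ S' ∧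
        wsub (P ⊔ S) = wsub (P ⊔ S') := by
    intro S qS hS
    have hex : ∃ e ∈ S, e ≠ 1 ∧ z ≠ e := by
      by_contra hno
      push Not at hno
      have hle : S ≤ zpowers z := fun e he => by
        by_cases he1 : e = 1
        · rw [he1]; exact one_mem _
        · exact hno e he he1 ▸ mem_zpowers z
      have := Nat.le_of_dvd Nat.card_pos (card_dvd_of_le hle)
      rw [qS.cardR, Nat.card_zpowers, hzo] at this
      omega
    obtain ⟨e, he, he1, hze⟩ := hex
    have heY := qS.memR e he he1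
    obtain ⟨h4, hY⟩ := four_spec π.swap (x := z) (x' := e) hzY heY (hzc e ⟨heY.2, hS he⟩) hze
    have hle : two z e ≤ (T : Subgroup G) := sup_le (zpowers_le.2 hz.2) (zpowers_le.2 (hS he))
    have q1 : Quad π P (two z e) := ⟨q.cardP, h4, q.memP, hY, fun a ha c hc => by
      by_cases ha1 : a = 1
      · rw [ha1]; exact Commute.one_left c
      by_cases hc1 : c = 1
      · rw [hc1]; exact Commute.one_right a
      exact π.comm T T.2 a (q.memP a ha ha1).2 (hP ha) c (hY c hc hc1).2 (hle hc)⟩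
    exact ⟨two z e, q1, hle, mem_sup_left (mem_zpowers z),
      wsub_eq_of_share h qS q1 he (mem_sup_right (mem_zpowers e)) he1⟩
  obtain ⟨S, qS, _, hzS, eS⟩ := key q hR
  obtain ⟨S', qS', _, hzS', eS'⟩ := key q' hR'
  rw [eS, eS', wsub_eq_of_share h qS qS' hzS hzS' (π.swap.ne_one_of_X hzY)]

/-- All quads in one Sylow subgroup have the same `W`. -/
lemma wsub_eq_in_sylow (T : Sylow 2 G) {P' R' : Subgroup G} (q : Quad π P R) (q' : Quad π P' R')
    (hP : P ≤ (T : Subgroup G)) (hR : R ≤ (T : Subgroup G)) (hP' : P' ≤ (T : Subgroup G))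
    (hR' : R' ≤ (T : Subgroup G)) : wsub (P ⊔ R) = wsub (P' ⊔ R') := by
  have q1 : Quad π P R' := ⟨q.cardP, q'.cardR, q.memP, q'.memR, fun a ha c hc => by
    by_cases ha1 : a = 1
    · rw [ha1]; exact Commute.one_left c
    by_cases hc1 : c = 1
    · rw [hc1]; exact Commute.one_right a
    exact π.comm T T.2 a (q.memP a ha ha1).2 (hP ha) c (q'.memR c hc hc1).2 (hR' hc)⟩
  rw [wsub_eq_right h T q q1 hP hR hR', sup_comm P R', sup_comm P' R']
  exact wsub_eq_right h.swap T q1.swap q'.swap hR' hP hP'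

omit h in
lemma map_phi (g a b : G) :
    phi (g * a * g⁻¹) (g * b * g⁻¹) = (phi a b).map (MulAut.conj g).toMonoidHom := by
  rw [phi, phi, Subgroup.map_sup, Subgroup.map_commutator, MonoidHom.map_zpowers,
    Subgroup.map_inf _ _ _ (MulAut.conj g).injective,
    ← SolvableSignalizer.centralizerPPrimeCore_conj, ← SolvableSignalizer.centralizerPPrimeCore_conj]
  rfl

omit h in
lemma map_wP (g b : G) (P : Subgroup G) :
    wP (P.map (MulAut.conj g).toMonoidHom) (g * b * g⁻¹) =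
      (wP P b).map (MulAut.conj g).toMonoidHom := by
  rw [wP, wP, Subgroup.map_iSup]
  refine le_antisymm (iSup_le fun ⟨a, ha, ha1⟩ => ?_) (iSup_le fun ⟨a, ha, ha1⟩ => ?_)
  · obtain ⟨a', ha', rfl⟩ := ha
    refine le_trans ?_ (le_iSup (fun a : {a : G // a ∈ P ∧ a ≠ 1} =>
      (phi (a : G) b).map (MulAut.conj g).toMonoidHom)
      ⟨a', ha', fun e => ha1 (by rw [e, map_one])⟩)
    rw [← map_phi]
    exact le_of_eq rfl
  · refine le_trans ?_ (le_iSup (fun a : {a : G // a ∈ P.map (MulAut.conj g).toMonoidHom ∧ a ≠ 1} =>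
      phi (a : G) (g * b * g⁻¹)) ⟨g * a * g⁻¹, ⟨a, ha, rfl⟩, fun e => ha1 (conj_eq_one_iff.1 e)⟩)
    rw [map_phi]

omit h in
lemma quad_conj (q : Quad π P R) (g : G) :
    Quad π (P.map (MulAut.conj g).toMonoidHom) (R.map (MulAut.conj g).toMonoidHom) where
  cardP := by rw [card_map_of_injective (MulAut.conj g).injective, q.cardP]
  cardR := by rw [card_map_of_injective (MulAut.conj g).injective, q.cardR]
  memP := by
    rintro _ ⟨a, ha, rfl⟩ h1
    exact π.conjX g (q.memP a ha fun e => h1 (by rw [e, map_one]))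
  memR := by
    rintro _ ⟨a, ha, rfl⟩ h1
    exact π.swap.conjX g (q.memR a ha fun e => h1 (by rw [e, map_one]))
  comm := by
    rintro _ ⟨a, ha, rfl⟩ _ ⟨b, hb, rfl⟩
    exact (q.comm a ha b hb).map _

lemma wsub_conj (q : Quad π P R) (g : G) :
    wsub (P.map (MulAut.conj g).toMonoidHom ⊔ R.map (MulAut.conj g).toMonoidHom) =
      (wsub (P ⊔ R)).map (MulAut.conj g).toMonoidHom := by
  obtain ⟨b, hb, hb1⟩ := exists_mem q q.cardR
  rw [wsub_eq_wP h q hb hb1, ← map_wP, wsub_eq_wP h (quad_conj q g) (mem_map_of_mem _ hb)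
    (fun e => hb1 (conj_eq_one_iff.1 e))]
  rfl

/-- Elements keeping a quad inside its Sylow subgroup normalize `W`. -/
lemma mem_stab (T : Sylow 2 G) (q : Quad π P R) (hP : P ≤ (T : Subgroup G))
    (hR : R ≤ (T : Subgroup G)) {g : G} (hgP : P.map (MulAut.conj g).toMonoidHom ≤ (T : Subgroup G))
    (hgR : R.map (MulAut.conj g).toMonoidHom ≤ (T : Subgroup G)) :
    g ∈ normalizer (wsub (P ⊔ R) : Set G) := by
  rw [← Transfer.Fusion.map_conj_eq_self_iff, ← wsub_conj h q g]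
  exact wsub_eq_in_sylow h T (quad_conj q g) q hgP hgR hP hR

/-- Elements fixing `P` and moving some `b ∈ R` inside `R` normalize `W`. -/
lemma mem_stab_of_fix (q : Quad π P R) {g b : G}
    (hgP : P.map (MulAut.conj g).toMonoidHom = P) (hb : b ∈ R) (hb1 : b ≠ 1)
    (hgb : g * b * g⁻¹ ∈ R) : g ∈ normalizer (wsub (P ⊔ R) : Set G) := by
  rw [← Transfer.Fusion.map_conj_eq_self_iff]
  conv_lhs => rw [wsub_eq_wP h q hb hb1, ← map_wP, hgP]
  rw [← wsub_eq_wP h q hgb (fun e => hb1 (conj_eq_one_iff.1 e))]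

end Cfsg.Agent.ProductFusion
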